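import Cfsg.Agent.Mult.Slices
import Cfsg.Agent.F42C.Tabs

set_option autoImplicit false
set_option Elab.async false
set_option maxRecDepth 100000
set_option linter.all false

namespace Cfsg.Agent.F42C
open Cfsg.Agent.CGT

open Cfsg.Agent.Mult

noncomputable def u3_D : PC := ⟨3, 6, 2, 22,
  [[0, 0x44, 0x110, 0x440, 0x100, 0x400], [0, 0x400, 0x650, 0x840, 0x500, 0x400], [0, 0, 0, 0x40, 0x100, 0x400], [0, 0, 0, 0, 0x100, 0x400], [0, 0, 0, 0, 0, 0x400], [0, 0, 0, 0, 0, 0]],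
  [0x3f, 0x3f, 0, 0, 0, 0],
  [(6, 1, 0x82a), (6, 4, 0x404), (6, 0x10, 0x110), (6, 0x40, 0x600), (6, 0x100, 0x80), (6, 0x400, 0x400), (7, 1, 0x255), (7, 4, 0x248), (7, 0x10, 0x260), (7, 0x40, 0x200), (7, 0x100, 0x80), (7, 0x400, 0x800)], 13, 0x20304030105020400010005⟩
noncomputable def u3_ds : List (List ℕ) := [[18, 4, 6, 0, 6, 4, 6, 14, 12, 2, 16, 8, 2, 14, 10, 6, 12, 14, 8, 16, 10, 2, 12, 6, 4, 12, 6, 18, 8, 10, 12, 4, 2, 10, 14, 16, 8, 2, 0, 8, 6, 16, 8, 0, 4, 12, 6, 0, 2, 6, 8, 2, 8, 0], [6, 10, 18, 0, 18, 14, 0, 12, 16, 0, 12, 8, 10, 0, 16, 14, 2, 12, 10, 8, 16, 0, 8, 16, 4, 18, 14, 10, 12, 10, 18, 16, 4, 2, 6, 16, 8, 10, 14, 12, 2, 18, 16, 0, 12, 6, 18, 8, 0, 16, 0, 6, 0], [2, 10, 12, 2, 18, 14, 12, 10, 8, 10, 12, 2, 14, 18, 12, 10, 14, 16, 14, 16, 12, 18,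 6, 4, 10, 2, 14, 8, 16, 10, 12, 14, 6, 18, 8, 16, 8, 6, 12, 4, 10, 8, 6, 18, 8, 10, 12, 14, 0, 12, 6, 0, 8, 0, 16, 8, 0, 6, 2, 0], [4, 14, 14, 18, 12, 14, 10, 8, 6, 0, 8, 16, 0, 14, 12, 10, 12, 4, 14, 18, 12, 10, 8, 16, 2, 14, 12, 8, 4, 10, 12, 8, 14, 6, 8, 18, 14, 10, 12, 16, 8, 10, 14, 12, 16, 18, 2, 12, 10, 8, 16, 14, 12, 10, 6, 4, 16, 12], [6, 14, 12, 8, 6, 2, 16, 14, 0, 8, 0, 16, 6, 12, 0, 10, 8, 2, 4, 18, 16, 14, 12, 16, 14, 10, 12, 18, 14, 2, 12, 10, 0, 12, 16, 8, 14, 0, 16, 2, 10, 8, 18, 0, 12, 10, 8, 16, 0, 10, 8, 18, 14, 12, 16, 6], [14, 4, 0, 6, 2, 10, 12, 8, 14, 4, 10, 12, 0, 6, 8, 16, 0, 14, 2, 6, 8, 16, 12, 4, 14, 10, 8, 18, 6, 12, 4, 16, 18, 2, 16, 14, 12, 18, 14, 10, 12, 18, 14, 16, 14, 12, 8, 2, 0], [8, 0, 8, 10, 12, 14, 8, 6, 8, 0, 12, 16, 8,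 0, 8, 10, 12, 10, 0, 8, 0, 12, 0, 8, 16, 0, 14, 12, 10, 8, 6, 4, 14, 12, 16, 2, 14, 18, 12, 16, 14, 12, 10, 18, 8, 6, 4, 2, 14, 0, 16, 8, 0, 12, 0, 6, 16, 6, 0, 0, 16], [8, 10, 12, 8, 0, 10, 8, 14, 6, 0, 8, 16, 12, 0, 6, 4, 2, 6, 12, 16, 14, 10, 8, 10, 14, 12, 2, 0, 16, 8, 6, 0, 6, 12, 14, 16, 0, 16, 8, 0, 8, 6, 10, 12, 0, 6, 8, 16, 0, 12, 10, 8, 12, 6, 18, 12, 8, 4]]
noncomputable def u3_c : Mult.Cert := ⟨155, 20, [[], [], [], [1], [2], [3]],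
  [],
  [[0xc2bf0987, 0, 0, 0, 0x42daf41cb, 0x7499c451], [0, 0x67cdd73de, 0x7126ab05c, 0x38aab7dbe, 0x70d81eacd, 0x26f7c52b3], [0, 0, 0x440a723f, 0x2b44c, 0xb9083a5e, 0x241962b9a], [0, 0, 0, 0x1c089825, 0xb90585c1, 0x8a8d67b6], [0, 0, 0, 0, 0xf650b86, 0xcfd41b91], [0, 0, 0, 0, 0, 0x521ae82]]⟩

end Cfsg.Agent.F42C
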