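import Cfsg.Agent.F42C.PresR
import Cfsg.Agent.F42C.PresQL0

set_option autoImplicit false
set_option Elab.async false
set_option maxRecDepth 100000
set_option linter.all false

namespace Cfsg.Agent.F42C
open Cfsg.Agent.CGT

noncomputable def ql1_n1 : Net := Net.cons 128 0x80000000000000000000000000000000 <|
  Net.cons 64 0x80000000000000000000000000000000301c000000000000 <|
  Net.cons 32 0x8000000000000000b67800000000000083010000 <|
  Net.cons 16 0x8000000086d8000008040000072000000000 <|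
  Net.cons 8 0x800000008000600000004c001400900000 <|
  Net.cons 4 0x8000000000400000c08000204080000 <|
  Net.cons 2 0x2200000002220000220000020000020000 <|
  Net.cons 1 0x1115401151440044445004041001010001 <|
  Net.cons 2 0x2203020032220100220300020010020000 <|
  Net.cons 4 0x908000009000400000c0a000204080000 <|
  Net.cons 8 0x800000008000600000004c001400900000 <|
  Net.cons 16 0x8000000086d80000391c0000072000000000 <|
  Net.cons 32 0x8000000000000000b67800000000000083010000 <|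
  Net.cons 64 0x80000000000000000000000000000000301c000000000000 <|
  Net.cons 128 0x80000000000000000000000000000000 <|
  Net.nil
noncomputable def ql1_n2 : Net := Net.cons 32 0xc000000000000000e8761200 <|
  Net.cons 16 0xf000000000000000e9c000002210 <|
  Net.cons 8 0xa0000c002a00aa0010006000a80020 <|
  Net.cons 4 0xc000800080000080a0800020000 <|
  Net.cons 2 0x200000220002000020000000000000 <|
  Net.cons 1 0x50400000141554550010500050450010 <|
  Net.cons 2 0x200303220032000020023030000000 <|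
  Net.cons 4 0xc0008000800000a0a0800020000 <|
  Net.cons 8 0xa0000c002a00aa00d1006000aa0020 <|
  Net.cons 16 0xf000000000000000e9c000002210 <|
  Net.cons 32 0xc000000000000000e8761200 <|
  Net.nil
noncomputable def ql1_n3 : Net := Net.cons 64 0x5bb80c0000000000 <|
  Net.cons 32 0x3ff41e000000000000000000 <|
  Net.cons 16 0x2b50000016a000000c4000004100 <|
  Net.cons 8 0x9200c800a4006000a8003200440080 <|
  Net.cons 4 0x400000806060c000008000808040c00 <|
  Net.cons 2 0x200202200020000000022000 <|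
  Net.cons 1 0x1000000410404105410010500044000 <|
  Net.cons 2 0x10102220201222200020003302022300 <|
  Net.cons 4 0xc0205080e060d00000804080c0c0c00 <|
  Net.cons 8 0x9200c800a4006000a8003200440080 <|
  Net.cons 16 0x2b50000016a000000c4000004100 <|
  Net.cons 32 0x3ff41e000000000000000000 <|
  Net.cons 64 0x5bb80c0000000000 <|
  Net.nil
noncomputable def ql1_n4 : Net := Net.cons 128 0x60000000000000000000000000000000 <|
  Net.cons 64 0x60000000000000000000000000000000f871c01808002000 <|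
  Net.cons 32 0x6000000000000000e85080400000000044000000 <|
  Net.cons 16 0x6000000088600000207000004d900000c800 <|
  Net.cons 8 0x60005a0040000000000008009000b00000 <|
  Net.cons 4 0x200000002000c0a0a000808000a000800 <|
  Net.cons 2 0x20002000022022200200000200000 <|
  Net.cons 1 0x105040004400014541104100050400000 <|
  Net.cons 2 0x30020012103032022200200000202120 <|
  Net.cons 4 0x600010002080c020a000908080a080800 <|
  Net.cons 8 0x60005a004800000000000800d400b00000 <|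
  Net.cons 16 0x6000000088600000f87000004d900000c800 <|
  Net.cons 32 0x6000000000000000e87080440000000044000000 <|
  Net.cons 64 0x60000000000000000000000000000000f871c01808002000 <|
  Net.cons 128 0x60000000000000000000000000000000 <|
  Net.nil
noncomputable def ql1_n5 : Net := Net.cons 128 0x88000000000000000000000000000000 <|
  Net.cons 64 0x880000000000000000000000000000000804004000000000 <|
  Net.cons 32 0x880000000000000078d400000000000092420200 <|
  Net.cons 16 0x880000003838000000800000922400004280 <|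
  Net.cons 8 0x80048000000a000000010000000c80040 <|
  Net.cons 4 0x408000200000000000000080004000400 <|
  Net.cons 2 0x2000200000020000020020020000000000 <|
  Net.cons 1 0x4040101500040104040041010005000050 <|
  Net.cons 2 0x2200200300200102030031020003220100 <|
  Net.cons 4 0x805080602090008000000070804040e0400 <|
  Net.cons 8 0x80048000000a000000010001200c80040 <|
  Net.cons 16 0x88000000383800000e870000922400004280 <|
  Net.cons 32 0x880000000000000078d400000000000092420200 <|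
  Net.cons 64 0x880000000000000000000000000000000804004000000000 <|
  Net.cons 128 0x88000000000000000000000000000000 <|
  Net.nil
noncomputable def ql1_n6 : Net := Net.cons 128 0x4000000000000000000000000000000 <|
  Net.cons 64 0x40000000000000000000000000000003c4d444200022000 <|
  Net.cons 32 0x4000000000000009748010000000000c1020000 <|
  Net.cons 16 0x4000000886000002c480000058000008000 <|
  Net.cons 8 0x40000006c002000800058000000000000 <|
  Net.cons 4 0x20204060c0008000808000000020008 <|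
  Net.cons 2 0x2000002020000020000002202000000220 <|
  Net.cons 1 0x4005011045000414000041101000010110 <|
  Net.cons 2 0x2100002120120020122013202000002220 <|
  Net.cons 4 0x20606060c0208000d05000000020408 <|
  Net.cons 8 0x40021006c002000800058009100000000 <|
  Net.cons 16 0x4000000887000002c480000058200008000 <|
  Net.cons 32 0x4000000000000009748010000000000c1020000 <|
  Net.cons 64 0x40000000000000000000000000000003c4d444200022000 <|
  Net.cons 128 0x4000000000000000000000000000000 <|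
  Net.nil
noncomputable def ql1_n7 : Net := Net.cons 128 0x8000000000000000000000000000000 <|
  Net.cons 64 0x80000000000000000000000000000006010000000000000 <|
  Net.cons 32 0x8000000000000006a40a0a00000000028000000 <|
  Net.cons 16 0x8000000e82a000052080000290000004040 <|
  Net.cons 8 0x800f000400080000000c0005000640000 <|
  Net.cons 4 0x80804000c0c000c00080800080000 <|
  Net.cons 2 0x20000200200002000000000000000 <|
  Net.cons 1 0x410440000400100004000504010400004 <|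
  Net.cons 2 0x1202103201212322210310001020000 <|
  Net.cons 4 0x208060804000c0c000c00080800080800 <|
  Net.cons 8 0x800f000400080000000c0005000640040 <|
  Net.cons 16 0x8000000ea6a000052080000290000004040 <|
  Net.cons 32 0x8000000000000006a40a0a00000000028000000 <|
  Net.cons 64 0x80000000000000000000000000000006010000000000000 <|
  Net.cons 128 0x8000000000000000000000000000000 <|
  Net.nil
noncomputable def ql1_n8 : Net := Net.cons 128 0x8000000000000000000000000000000 <|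
  Net.cons 64 0x80000000000000000000000000000004c2d005000000000 <|
  Net.cons 32 0x8000000000000004ca600000000000051004000 <|
  Net.cons 16 0x800000020600000a444000099100000c080 <|
  Net.cons 8 0x8002000a8000000000004002600880000 <|
  Net.cons 4 0x2000a0802000608000408000000000000 <|
  Net.cons 2 0x200000000000200020020002000200002 <|
  Net.cons 1 0x1100500045440400440010111000100004 <|
  Net.cons 2 0x200002000001221022321002112200002 <|
  Net.cons 4 0x20009080d000608000408000000000000 <|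
  Net.cons 8 0x8002000a8000000000004002600880080 <|
  Net.cons 16 0x800000004f30000a645000099100000c080 <|
  Net.cons 32 0x8000000000000004ca600000000000051004000 <|
  Net.cons 64 0x80000000000000000000000000000004c2d005000000000 <|
  Net.cons 128 0x8000000000000000000000000000000 <|
  Net.nil
noncomputable def ql1_n9 : Net := Net.cons 64 0x2816000000000000 <|
  Net.cons 32 0x384104740000000000000000 <|
  Net.cons 16 0xa0400000406e0000858000001000 <|
  Net.cons 8 0x88001000a2 <|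
  Net.cons 4 0x8000400000400000000080000000a00 <|
  Net.cons 2 0x20002000020222000202020200000000 <|
  Net.cons 1 0x4015004150441444154404010100000500 <|
  Net.cons 2 0x20102000221302000222020200000010 <|
  Net.cons 4 0x8000400000300000000080000010a02 <|
  Net.cons 8 0x88001000a2 <|
  Net.cons 16 0xa04d0000aeee0000858000001000 <|
  Net.cons 32 0x384104740000000000000000 <|
  Net.cons 64 0x2816000000000000 <|
  Net.nil
noncomputable def ql1_ns : List Net := [Net.nil, ql1_n1, ql1_n2, ql1_n3, ql1_n4, ql1_n5, ql1_n6, ql1_n7, ql1_n8, ql1_n9]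
noncomputable def ql1_R : List (List ℕ) := [[2, 2], [4, 4], [6, 6], [8, 8], [10, 10], [12, 12], [14, 14], [16, 16], [18, 18], [4, 6, 8, 10, 12, 14, 16, 18, 4, 6, 8, 10, 12, 14, 16, 18, 4, 6, 8, 10, 12, 14, 16, 18, 4, 6, 8, 10, 12, 14, 16, 18, 4, 6, 8, 10, 12, 14, 16, 18, 4, 6, 8, 10, 12, 14, 16, 18, 4, 6, 8, 10, 12, 14, 16, 18, 4, 6, 8, 10, 12, 14, 16, 18, 4, 6, 8, 10, 12, 14, 16, 18, 4, 6, 8, 10, 12, 14, 16, 18, 4, 6, 8, 10, 12, 14, 16, 18, 4, 6, 8, 10, 12, 14, 16, 18, 4, 6, 8, 10, 12, 14, 16, 18, 4, 6, 8, 10, 12, 14, 16, 18, 4, 6, 8, 10, 12, 14, 16, 18], [2, 8, 10, 12, 14, 16, 18, 2, 8, 10, 12, 14, 16, 18, 2, 8, 10, 12, 14, 16, 18, 2, 8, 10, 12, 14, 16, 18, 2, 8, 10, 12, 14, 16, 18, 2, 8, 10, 12, 14, 16, 18, 2, 8, 10, 12, 14, 16, 18, 2, 8, 10, 12, 14, 16, 18, 2, 8, 10, 12, 14, 16, 18], [14, 16, 14, 16, 14, 16], [12, 16, 12, 16], [12, 14, 12, 14, 12, 14], [10, 14, 10, 14], [10, 16, 10, 16], [10, 12, 10, 12, 10, 12], [18, 10, 18, 10], [18,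 14, 18, 14], [18, 16, 18, 16], [18, 12, 18, 12, 18, 12], [8, 12, 8, 12], [8, 14, 8, 14], [8, 16, 8, 16], [8, 18, 8, 18], [8, 10, 8, 10, 8, 10], [6, 10, 6, 10], [6, 12, 6, 12], [6, 14, 6, 14], [6, 16, 6, 16], [6, 18, 6, 18], [6, 8, 6, 8, 6, 8], [4, 8, 4, 8], [4, 10, 4, 10], [4, 12, 4, 12], [4, 14, 4, 14], [4, 16, 4, 16], [4, 18, 4, 18], [4, 6, 4, 6, 4, 6], [2, 4, 2, 4], [2, 6, 2, 6], [2, 8, 2, 8], [2, 10, 2, 10], [2, 12, 2, 12], [2, 14, 2, 14], [2, 18, 2, 18], [2, 16, 2, 16, 2, 16]]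
noncomputable def ql1_S0 : List (List ℕ) := [[4], [6], [8], [10], [12], [14], [16], [18]]
noncomputable def ql1_E : Enum := ⟨ql1_ns, ql1_R, ql1_S0, [], 0⟩
theorem ql1_v : validAll (2 ^ 8) ql1_ns = true := by decide +kernel
theorem ql1_p0 : holdsB 8 ql1_ns ql1_R = true := by decide +kernel
theorem ql1_p : Holds (lp ql1_ns) ql1_R := holdsB_sound ql1_v ql1_p0
theorem ql1_f : allL ql1_E.Sub (fixN ql1_E.ns ql1_E.b0) = true := by decide +kernel
theorem ql1_r0 : ql1_E.run [10, 0, 66, 28, 58, 24, 50, 20, 74, 32, 42, 16, 50, 20, 58, 24, 66, 28, 10, 0, 34, 12, 42, 16, 50, 20, 58, 24, 66, 28, 26, 8, 34, 12, 42, 16, 50, 20, 58, 24, 18, 4, 26, 8, 34, 12, 42, 16, 50, 20, 74, 32, 3, 7, 11, 15, 19, 23, 27, 31, 68, 4180, 4184, 4188, 4192, 4200, 4204, 4208, 4212, 4216, 4224, 4228, 4232, 4236, 4240, 4244, 4252, 4256, 164, 4260, 168, 4264, 172, 4268, 176, 4272, 4276, 4140, 184, 4152, 4156, 4180, 4184, 4188, 4200, 4204, 4208, 160, 164, 4144, 4152, 4156, 4180,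 4184, 4212, 156, 160, 168, 172, 4144, 4188, 164, 4172, 48, 4144, 4152, 60, 4156, 76, 92, 116, 4212, 144, 4240, 168, 176, 44, 52, 4180, 4184, 4188, 4268, 4272, 64, 48, 4204, 64, 56, 4208, 100, 72, 84, 88, 96, 112, 4212, 140, 172, 180, 4148, 4160, 80, 4176, 4152, 72, 4168, 76, 84, 4180, 4184, 96, 4192, 108, 4204, 4208, 120, 4216, 136, 4232, 4236, 148, 4244, 168, 172, 176, 4276, 52, 64, 100, 4196, 124, 152, 4280, 48, 60, 68, 92, 4192, 104, 4200, 4216, 132, 4228, 164, 4260, 168, 4264, 4268, 4160, 124, 4220, 4280, 56, 60, 88, 160, 84, 92, 112, 4224, 156, 164, 172, 124, 152, 4280, 88, 104, 112, 160, 4256, 4260, 168, 44, 4196, 152, 4280, 4152, 60, 4180, 92, 4200, 108, 4208, 116, 128, 136, 140, 144, 4252, 4260, 4264, 52, 4148, 4160, 4248, 4180, 104, 108, 112, 132, 136, 140, 4140, 4148, 4220, 184, 4152, 4140, 4196, 4144, 4208, 4212, 168, 172, 176, 184, 60, 4172, 4184, 92, 4188, 4204, 116, 120, 136, 144, 148, 160, 4256, 164, 168, 172, 180, 4160,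 4156, 4148, 64, 4164, 4168, 24616, 32, 72, 4216, 4244, 4192, 4216, 68, 4192, 80, 68, 72, 4176] (1 <<< 0) (List.replicate 20 0) (Enum.done 136 [2, 4, 6, 8, 10, 12, 14, 16, 18]) = true := by decide +kernel
theorem ql1_fin {G : Type*} [Group G] {γ : ℕ → G} (hR : Holds (ext γ) ql1_R) {H : Subgroup G}
    (hS : ∀ u ∈ ql1_S0, ev (ext γ) u ∈ H) : ql1_E.Fin γ H 136 [2, 4, 6, 8, 10, 12, 14, 16, 18] :=
  have hy : ql1_E.Hyp γ H := Enum.hyp_of ql1_v hR ql1_p hS ql1_f
  (Enum.fin_of_done hy (Enum.inv_init 20) ql1_r0)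
noncomputable def ql2_n2 : Net := Net.cons 64 0xc000000000000000 <|
  Net.cons 32 0xc40000000000000033100000 <|
  Net.cons 16 0x84000000d8000000337600000000 <|
  Net.cons 8 0x800004001c00f00092008a00000000 <|
  Net.cons 4 0x408000202000200080000000000 <|
  Net.cons 2 0x202000022000000000000 <|
  Net.cons 1 0x400000001114001044140100000001 <|
  Net.cons 2 0x103030202000022000000000000 <|
  Net.cons 4 0x4080002020c0a070b0f03080000 <|
  Net.cons 8 0x800004001c00f0009200b900000000 <|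
  Net.cons 16 0x84000000d8000000337600000000 <|
  Net.cons 32 0xc40000000000000033100000 <|
  Net.cons 64 0xc000000000000000 <|
  Net.nil
noncomputable def ql2_n3 : Net := Net.cons 64 0x1800000000000000 <|
  Net.cons 32 0x1800000000000000c0000000 <|
  Net.cons 16 0xc000000018000000e28800000000 <|
  Net.cons 8 0x40008000000010001000c800240000 <|
  Net.cons 4 0x40c0c04060004000400020000 <|
  Net.cons 2 0x200000000000020220000200000002 <|
  Net.cons 1 0x400000000045515440004400150004 <|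
  Net.cons 2 0x202001030303023220020200030002 <|
  Net.cons 4 0x40c0c0406060c010402020000 <|
  Net.cons 8 0xc0008000000019003400c800240000 <|
  Net.cons 16 0xc000000018000000e28800000000 <|
  Net.cons 32 0x1800000000000000c0000000 <|
  Net.cons 64 0x1800000000000000 <|
  Net.nil
noncomputable def ql2_n4 : Net := Net.cons 64 0x2000000000000000 <|
  Net.cons 32 0xe08000000000000000000000 <|
  Net.cons 16 0xe1800000e0800000004000006000 <|
  Net.cons 8 0x200000000000200014000800260000 <|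
  Net.cons 4 0x80000000000000c08000a0200020000 <|
  Net.cons 2 0x2000000000000000020000022000000 <|
  Net.cons 1 0x1100000000000000041141044010004 <|
  Net.cons 2 0x2003030303000210330001022000000 <|
  Net.cons 4 0x80000000000000c08030a0a0e060000 <|
  Net.cons 8 0x6000f000f000200014001a00260000 <|
  Net.cons 16 0xe1800000e0800000100200006000 <|
  Net.cons 32 0xe08000000000000000000000 <|
  Net.cons 64 0x2000000000000000 <|
  Net.nil
noncomputable def ql2_n5 : Net := Net.cons 64 0x9400000000000000 <|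
  Net.cons 32 0xa400000000000000a0000000 <|
  Net.cons 16 0x3000000095080000a00000008000 <|
  Net.cons 8 0x10008e000800240020002800800000 <|
  Net.cons 4 0x20c020c0804080c08040800080808 <|
  Net.cons 2 0x2022000000000200000000020 <|
  Net.cons 1 0x100514411000000000400400040010 <|
  Net.cons 2 0x3002022030032102200000003020 <|
  Net.cons 4 0x20c020c0804080c080c0b04080808 <|
  Net.cons 8 0x30008e000800240020002800800000 <|
  Net.cons 16 0x3000000095080000a00000008000 <|
  Net.cons 32 0xb400000400000000a0000000 <|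
  Net.cons 64 0x9400000000000000 <|
  Net.nil
noncomputable def ql2_n6 : Net := Net.cons 64 0x4000000000000000 <|
  Net.cons 32 0x440000000000000010000000 <|
  Net.cons 16 0x16000000e48000009c9000000000 <|
  Net.cons 8 0x2004400040064008c001800440000 <|
  Net.cons 4 0x8000008000000040000040400 <|
  Net.cons 2 0x2000000002002000020000200000 <|
  Net.cons 1 0x14005505004001000010000400010 <|
  Net.cons 2 0x2003000122102023120000201200 <|
  Net.cons 4 0x8000008000000040106040400 <|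
  Net.cons 8 0x16004c00f40064008c001800440000 <|
  Net.cons 16 0x16000000e48000009c9000000000 <|
  Net.cons 32 0x440000000000000010000000 <|
  Net.cons 64 0x4000000000000000 <|
  Net.nil
noncomputable def ql2_n7 : Net := Net.cons 64 0xc00000000000000 <|
  Net.cons 32 0x9e0c08000000000000000000 <|
  Net.cons 16 0x962c00000c000000102000004000 <|
  Net.cons 8 0x200082000000440092001000620090 <|
  Net.cons 4 0x80000020000020800 <|
  Net.cons 2 0x2020000000020000000000000000000 <|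
  Net.cons 1 0x14040445000044054100011000100050 <|
  Net.cons 2 0x2020000000020030011000000000230 <|
  Net.cons 4 0x80005020003060800 <|
  Net.cons 8 0x26009e004900440092001000620090 <|
  Net.cons 16 0x962c00000c000000102000004000 <|
  Net.cons 32 0x9e0c08000000000000000000 <|
  Net.cons 64 0xc00000000000000 <|
  Net.nil
noncomputable def ql2_n8 : Net := Net.cons 64 0x5000000000000000 <|
  Net.cons 32 0x781000000000000000000000 <|
  Net.cons 16 0x2000000063020000204000000000 <|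
  Net.cons 8 0x80000001000400024004000800060 <|
  Net.cons 4 0x808080808000008080e00 <|
  Net.cons 2 0x2020000000200002200020 <|
  Net.cons 1 0x40404011110500500400001115040 <|
  Net.cons 2 0x2020300320200002203120 <|
  Net.cons 4 0x808080808000008080e00 <|
  Net.cons 8 0x18002c00f300de0024004000800060 <|
  Net.cons 16 0x28040000730a0000204000000000 <|
  Net.cons 32 0x781000000000000000000000 <|
  Net.cons 64 0x5000000000000000 <|
  Net.nil
noncomputable def ql2_n9 : Net := Net.cons 32 0x590000000000000060000000 <|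
  Net.cons 16 0x4b20000048020000600000000000 <|
  Net.cons 8 0x200000002200000040000400400040 <|
  Net.cons 4 0x200 <|
  Net.cons 2 0x202200002000 <|
  Net.cons 1 0x10000000405100000000444144004000 <|
  Net.cons 2 0x10021100002120 <|
  Net.cons 4 0xe0f0c000200 <|
  Net.cons 8 0x22005d00ee00120040004c00400040 <|
  Net.cons 16 0x4b20000048020000600000000000 <|
  Net.cons 32 0x590000000000000060000000 <|
  Net.nil
noncomputable def ql2_ns : List Net := [Net.nil, Net.nil, ql2_n2, ql2_n3, ql2_n4, ql2_n5, ql2_n6, ql2_n7, ql2_n8, ql2_n9]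
noncomputable def ql2_R : List (List ℕ) := [[4, 4], [6, 6], [8, 8], [10, 10], [12, 12], [14, 14], [16, 16], [18, 18], [4, 6, 8, 10, 12, 14, 16, 18, 4, 6, 8, 10, 12, 14, 16, 18, 4, 6, 8, 10, 12, 14, 16, 18, 4, 6, 8, 10, 12, 14, 16, 18, 4, 6, 8, 10, 12, 14, 16, 18, 4, 6, 8, 10, 12, 14, 16, 18, 4, 6, 8, 10, 12, 14, 16, 18, 4, 6, 8, 10, 12, 14, 16, 18, 4, 6, 8, 10, 12, 14, 16, 18, 4, 6, 8, 10, 12, 14, 16, 18, 4, 6, 8, 10, 12, 14, 16, 18, 4, 6, 8, 10, 12, 14, 16, 18, 4, 6, 8, 10, 12, 14, 16, 18, 4, 6, 8, 10, 12, 14, 16, 18, 4, 6, 8, 10, 12, 14, 16, 18], [14, 16, 14, 16, 14, 16], [12, 16, 12, 16], [12, 14, 12, 14, 12, 14], [10, 14, 10, 14], [10, 16, 10, 16], [10, 12, 10, 12, 10, 12], [18, 10, 18, 10], [18, 14, 18, 14], [18, 16, 18, 16], [18, 12, 18, 12, 18, 12], [8, 12, 8, 12], [8, 14, 8, 14], [8, 16, 8, 16], [8, 18, 8, 18], [8, 10, 8, 10, 8, 10], [6, 10, 6, 10], [6, 12, 6, 12], [6, 14, 6, 14], [6, 16, 6, 16], [6, 18, 6, 18], [6, 8, 6, 8, 6,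 8], [4, 8, 4, 8], [4, 10, 4, 10], [4, 12, 4, 12], [4, 14, 4, 14], [4, 16, 4, 16], [4, 18, 4, 18], [4, 6, 4, 6, 4, 6]]
noncomputable def ql2_S0 : List (List ℕ) := [[6], [8], [10], [12], [14], [16], [18]]
noncomputable def ql2_E : Enum := ⟨ql2_ns, ql2_R, ql2_S0, [], 0⟩
theorem ql2_v : validAll (2 ^ 7) ql2_ns = true := by decide +kernel
theorem ql2_p0 : holdsB 7 ql2_ns ql2_R = true := by decide +kernel
theorem ql2_p : Holds (lp ql2_ns) ql2_R := holdsB_sound ql2_v ql2_p0
theorem ql2_f : allL ql2_E.Sub (fixN ql2_E.ns ql2_E.b0) = true := by decide +kernel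
theorem ql2_r0 : ql2_E.run [18, 0, 26, 4, 34, 8, 42, 12, 50, 16, 58, 20, 66, 24, 74, 28, 50, 16, 58, 20, 42, 12, 50, 16, 74, 28, 34, 8, 42, 12, 50, 16, 58, 20, 66, 24, 26, 4, 34, 8, 42, 12, 50, 16, 58, 20, 74, 28, 18, 0, 26, 4, 34, 8, 42, 12, 50, 16, 58, 20, 42, 12, 34, 8, 26, 4, 3, 7, 11, 15, 19, 23, 27, 4144, 4160, 4164, 76, 4172, 4176, 4184, 4192, 100, 4196, 4200, 4204, 4208, 4216, 4220, 128, 4224, 4228, 4232, 4236, 116, 144, 60, 4172, 4176, 4180, 4184, 4192, 4196, 4200, 4208, 4144, 4148, 4172, 4176, 4184, 96, 4204, 4136, 4144, 60, 4164, 4180, 4148, 4136, 4164, 4180, 100, 104, 108, 4204, 112, 120, 124, 128, 132, 136, 4232, 140, 36, 44, 56, 92, 40, 48, 52, 4156, 76, 80, 84, 88, 100, 104, 120, 128, 132, 4152, 72, 116, 144, 60, 64, 76, 4172, 80, 4184, 96, 100, 4196, 4208, 124, 128, 4224, 4236, 4140, 4168, 4188, 4212, 4144, 4160, 4176, 84, 88, 96, 4192, 104, 4200, 108, 112, 120, 4216, 124, 4220, 132, 136, 140, 44, 56, 4152, 72, 92, 4188,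 4240, 40, 48, 52, 4156, 64, 68, 4184, 100, 4208, 120, 128, 132, 140, 92, 4240, 48, 60, 76, 4172, 80, 88, 4184, 4192, 124, 128, 4152, 4168, 116, 4212, 76, 4172, 96, 100, 4140, 4144, 4160, 4176, 4200, 4132, 4188, 4136, 4148, 4164, 4180, 4232, 4136, 4204, 36, 4144, 4148, 44, 72, 52, 60, 4172, 4176, 84, 4180, 4184, 96, 4192, 4196, 104, 108, 4208, 124, 132, 136, 56, 4152, 72, 48, 64, 4140, 4212, 32, 4240, 4212, 4188, 4152, 72, 4140, 4132] (1 <<< 0) (List.replicate 20 0) (Enum.done 120 [4, 6, 8, 10, 12, 14, 16, 18]) = true := by decide +kernel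
theorem ql2_fin {G : Type*} [Group G] {γ : ℕ → G} (hR : Holds (ext γ) ql2_R) {H : Subgroup G}
    (hS : ∀ u ∈ ql2_S0, ev (ext γ) u ∈ H) : ql2_E.Fin γ H 120 [4, 6, 8, 10, 12, 14, 16, 18] :=
  have hy : ql2_E.Hyp γ H := Enum.hyp_of ql2_v hR ql2_p hS ql2_f
  (Enum.fin_of_done hy (Enum.inv_init 20) ql2_r0)
noncomputable def ql3_n3 : Net := Net.cons 32 0x40000000 <|
  Net.cons 16 0x400000008000 <|
  Net.cons 8 0xd000800000 <|
  Net.cons 4 0x804040c0000 <|
  Net.cons 2 0x20000 <|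
  Net.cons 1 0x40040000410001 <|
  Net.cons 2 0x100332130000 <|
  Net.cons 4 0x8040e010000 <|
  Net.cons 8 0xd000800000 <|
  Net.cons 16 0x400000008000 <|
  Net.cons 32 0x40000000 <|
  Net.nil
noncomputable def ql3_n4 : Net := Net.cons 16 0x2000 <|
  Net.cons 8 0x4000b20000 <|
  Net.cons 4 0x40808020000 <|
  Net.cons 2 0x20020020202002 <|
  Net.cons 1 0x40040011111004 <|
  Net.cons 2 0x20122102202002 <|
  Net.cons 4 0x40803020000 <|
  Net.cons 8 0x4000b20000 <|
  Net.cons 16 0x2000 <|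
  Net.nil
noncomputable def ql3_n5 : Net := Net.cons 32 0x20000000 <|
  Net.cons 16 0x200000006800 <|
  Net.cons 8 0xc00000 <|
  Net.cons 4 0xa0206040400 <|
  Net.cons 2 0x20000 <|
  Net.cons 1 0x10010150040404 <|
  Net.cons 2 0x300002021000 <|
  Net.cons 4 0xa0206040400 <|
  Net.cons 8 0x2100c00000 <|
  Net.cons 16 0x200000006800 <|
  Net.cons 32 0x20000000 <|
  Net.nil
noncomputable def ql3_n6 : Net := Net.cons 32 0x40000000 <|
  Net.cons 16 0xc00000000000 <|
  Net.cons 8 0x4000400000 <|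
  Net.cons 4 0x8080004000008 <|
  Net.cons 2 0x20002002200020 <|
  Net.cons 1 0x4010004504100010 <|
  Net.cons 2 0x20202302200320 <|
  Net.cons 4 0x8080604020008 <|
  Net.cons 8 0x4000400000 <|
  Net.cons 16 0xc00000000000 <|
  Net.cons 32 0x40000000 <|
  Net.nil
noncomputable def ql3_n7 : Net := Net.cons 16 0x800000002000 <|
  Net.cons 8 0x80002000200048 <|
  Net.cons 4 0xc000a00080408 <|
  Net.cons 2 0x20000000000 <|
  Net.cons 1 0x40015000400050 <|
  Net.cons 2 0x2020000000100 <|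
  Net.cons 4 0xc020a000b0408 <|
  Net.cons 8 0x80002000200048 <|
  Net.cons 16 0x800000002000 <|
  Net.nil
noncomputable def ql3_n8 : Net := Net.cons 16 0x8000 <|
  Net.cons 8 0x4800800000 <|
  Net.cons 4 0xa04000c0000 <|
  Net.cons 2 0x2000020000 <|
  Net.cons 1 0x101400411500 <|
  Net.cons 2 0x1022000020020 <|
  Net.cons 4 0xe04000c0000 <|
  Net.cons 8 0x4800800000 <|
  Net.cons 16 0x8000 <|
  Net.nil
noncomputable def ql3_n9 : Net := Net.cons 32 0x90000000 <|
  Net.cons 16 0x300000000000 <|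
  Net.cons 8 0xa0009000a200a0 <|
  Net.cons 4 0xa000802000200 <|
  Net.cons 1 0x5000401000100 <|
  Net.cons 2 0x20000000002010 <|
  Net.cons 4 0xa00090e020200 <|
  Net.cons 8 0xa0009000a200a0 <|
  Net.cons 16 0xb00400000000 <|
  Net.cons 32 0x90000000 <|
  Net.nil
noncomputable def ql3_ns : List Net := [Net.nil, Net.nil, Net.nil, ql3_n3, ql3_n4, ql3_n5, ql3_n6, ql3_n7, ql3_n8, ql3_n9]
noncomputable def ql3_R : List (List ℕ) := [[6, 6], [8, 8], [10, 10], [12, 12], [14, 14], [16, 16], [18, 18], [14, 16, 14, 16, 14, 16], [12, 16, 12, 16], [12, 14, 12, 14, 12, 14], [10, 14, 10, 14], [10, 16, 10, 16], [10, 12, 10, 12, 10, 12], [18, 10, 18, 10], [18, 14, 18, 14], [18, 16, 18, 16], [18, 12, 18, 12, 18, 12], [8, 12, 8, 12], [8, 14, 8, 14], [8, 16, 8, 16], [8, 18, 8, 18], [8, 10, 8, 10, 8, 10], [6, 10, 6, 10], [6, 12, 6, 12], [6, 14, 6, 14], [6, 16, 6, 16], [6, 18, 6, 18], [6, 8, 6, 8, 6, 8]]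
noncomputable def ql3_S0 : List (List ℕ) := [[8], [10], [12], [14], [16], [18]]
noncomputable def ql3_E : Enum := ⟨ql3_ns, ql3_R, ql3_S0, [], 0⟩
theorem ql3_v : validAll (2 ^ 6) ql3_ns = true := by decide +kernel
theorem ql3_p0 : holdsB 6 ql3_ns ql3_R = true := by decide +kernel
theorem ql3_p : Holds (lp ql3_ns) ql3_R := holdsB_sound ql3_v ql3_p0
theorem ql3_f : allL ql3_E.Sub (fixN ql3_E.ns ql3_E.b0) = true := by decide +kernel
theorem ql3_r0 : ql3_E.run [26, 0, 34, 4, 42, 8, 50, 12, 58, 16, 66, 20, 74, 24, 50, 12, 58, 16, 42, 8, 50, 12, 74, 24, 34, 4, 42, 8, 50, 12, 58, 16, 66, 20, 26, 0, 34, 4, 42, 8, 50, 12, 58, 16, 74, 24, 50, 12, 42, 8, 34, 4, 26, 0, 3, 7, 11, 15, 19, 23, 4136, 4152, 4156, 4164, 4168, 4176, 4184, 4188, 4192, 4196, 4200, 84, 108, 4128, 4140, 52, 4164, 4168, 4172, 4176, 4196, 4136, 4140, 4128, 52, 4156, 68, 72, 76, 80, 88, 92, 96, 100, 104, 28, 36, 48, 32, 40, 44, 4148, 68, 72, 92, 96, 4144, 64, 84, 4180, 108, 52, 56,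 4164, 4176, 88, 4184, 92, 4188, 4200, 4132, 4144, 64, 4160, 4204, 4136, 56, 4152, 60, 4164, 72, 4168, 76, 80, 4176, 88, 96, 100, 104, 36, 48, 4180, 32, 40, 44, 52, 4148, 92, 104, 84, 40, 68, 72, 80, 96, 4144, 4160, 68, 4164, 92, 4188, 4132, 4136, 4152, 4168, 88, 4192, 4124, 4180, 4204, 4128, 4140, 4156, 4172, 4128, 28, 4136, 4140, 4184, 4196, 36, 64, 52, 4176, 4200] (1 <<< 0) (List.replicate 20 0) (Enum.done 56 [6, 8, 10, 12, 14, 16, 18]) = true := by decide +kernel
theorem ql3_fin {G : Type*} [Group G] {γ : ℕ → G} (hR : Holds (ext γ) ql3_R) {H : Subgroup G}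
    (hS : ∀ u ∈ ql3_S0, ev (ext γ) u ∈ H) : ql3_E.Fin γ H 56 [6, 8, 10, 12, 14, 16, 18] :=
  have hy : ql3_E.Hyp γ H := Enum.hyp_of ql3_v hR ql3_p hS ql3_f
  (Enum.fin_of_done hy (Enum.inv_init 20) ql3_r0)
noncomputable def ql4_n4 : Net := Net.cons 4 0x400 <|
  Net.cons 2 0x2000 <|
  Net.cons 1 0x51401 <|
  Net.cons 2 0x102000 <|
  Net.cons 4 0x400 <|
  Net.nil
noncomputable def ql4_n5 : Net := Net.cons 16 0x2000 <|
  Net.cons 8 0x280000 <|
  Net.cons 4 0x8020400 <|
  Net.cons 2 0x2 <|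
  Net.cons 1 0x410004 <|
  Net.cons 2 0x20001202 <|
  Net.cons 4 0x8020400 <|
  Net.cons 8 0x280000 <|
  Net.cons 16 0x2000 <|
  Net.nil
noncomputable def ql4_n6 : Net := Net.cons 8 0x800080 <|
  Net.cons 4 0x8000800 <|
  Net.cons 2 0x2000000 <|
  Net.cons 1 0x1000004 <|
  Net.cons 2 0x2030300 <|
  Net.cons 4 0x8000800 <|
  Net.cons 8 0x800080 <|
  Net.nil
noncomputable def ql4_n7 : Net := Net.cons 16 0x9000 <|
  Net.cons 8 0x900000 <|
  Net.cons 4 0x8040a <|
  Net.cons 2 0x2020 <|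
  Net.cons 1 0x1004010 <|
  Net.cons 2 0x22022 <|
  Net.cons 4 0x9040a <|
  Net.cons 8 0x900000 <|
  Net.cons 16 0x9000 <|
  Net.nil
noncomputable def ql4_n8 : Net := Net.cons 8 0xd8 <|
  Net.cons 4 0x80c <|
  Net.cons 2 0x2000020 <|
  Net.cons 1 0x4000514 <|
  Net.cons 2 0x2001320 <|
  Net.cons 4 0x80c <|
  Net.cons 8 0xd8 <|
  Net.nil
noncomputable def ql4_n9 : Net := Net.cons 8 0x40 <|
  Net.cons 4 0x40402 <|
  Net.cons 2 0x20 <|
  Net.cons 1 0x40010 <|
  Net.cons 2 0x300122 <|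
  Net.cons 4 0x40402 <|
  Net.cons 8 0x40 <|
  Net.nil
noncomputable def ql4_ns : List Net := [Net.nil, Net.nil, Net.nil, Net.nil, ql4_n4, ql4_n5, ql4_n6, ql4_n7, ql4_n8, ql4_n9]
noncomputable def ql4_R : List (List ℕ) := [[8, 8], [10, 10], [12, 12], [14, 14], [16, 16], [18, 18], [14, 16, 14, 16, 14, 16], [12, 16, 12, 16], [12, 14, 12, 14, 12, 14], [10, 14, 10, 14], [10, 16, 10, 16], [10, 12, 10, 12, 10, 12], [18, 10, 18, 10], [18, 14, 18, 14], [18, 16, 18, 16], [18, 12, 18, 12, 18, 12], [8, 12, 8, 12], [8, 14, 8, 14], [8, 16, 8, 16], [8, 18, 8, 18], [8, 10, 8, 10, 8, 10]]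
noncomputable def ql4_S0 : List (List ℕ) := [[10], [12], [14], [16], [18]]
noncomputable def ql4_E : Enum := ⟨ql4_ns, ql4_R, ql4_S0, [], 0⟩
theorem ql4_v : validAll (2 ^ 5) ql4_ns = true := by decide +kernel
theorem ql4_p0 : holdsB 5 ql4_ns ql4_R = true := by decide +kernel
theorem ql4_p : Holds (lp ql4_ns) ql4_R := holdsB_sound ql4_v ql4_p0
theorem ql4_f : allL ql4_E.Sub (fixN ql4_E.ns ql4_E.b0) = true := by decide +kernel
theorem ql4_r0 : ql4_E.run [34, 0, 42, 4, 50, 8, 58, 12, 66, 16, 74, 20, 50, 8, 58, 12, 42, 4, 50, 8, 74, 20, 34, 0, 42, 4, 50, 8, 58, 12, 66, 16, 3, 7, 11, 15, 19, 4132, 4148, 4152, 4160, 4164, 4168, 4172, 44, 80, 4124, 36, 4132, 40, 4136, 48, 4144, 64, 68, 72, 4168, 76, 4140, 4124, 4152, 64, 4160, 68, 24, 32, 4128, 4176, 28, 4132, 4148, 32, 44, 4140, 60, 4156, 80, 28, 48, 4144, 52, 56, 76, 4172, 4156, 64, 68, 72, 4128, 44, 36, 4132, 40, 4164, 4120, 4124, 4136, 4152, 4124, 24] (1 <<< 0) (List.replicate 20 0) (Enum.done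 27 [8, 10, 12, 14, 16, 18]) = true := by decide +kernel
theorem ql4_fin {G : Type*} [Group G] {γ : ℕ → G} (hR : Holds (ext γ) ql4_R) {H : Subgroup G}
    (hS : ∀ u ∈ ql4_S0, ev (ext γ) u ∈ H) : ql4_E.Fin γ H 27 [8, 10, 12, 14, 16, 18] :=
  have hy : ql4_E.Hyp γ H := Enum.hyp_of ql4_v hR ql4_p hS ql4_f
  (Enum.fin_of_done hy (Enum.inv_init 20) ql4_r0)
noncomputable def ql5_n5 : Net := Net.cons 8 0xc0 <|
  Net.cons 4 0x400 <|
  Net.cons 1 0x54 <|
  Net.cons 2 0x100 <|
  Net.cons 4 0x400 <|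
  Net.cons 8 0xc0 <|
  Net.nil
noncomputable def ql5_n6 : Net := Net.cons 2 0x2002 <|
  Net.cons 1 0x4104 <|
  Net.cons 2 0x2022 <|
  Net.nil
noncomputable def ql5_n7 : Net := Net.cons 4 0xc <|
  Net.cons 1 0x1000 <|
  Net.cons 2 0x230 <|
  Net.cons 4 0xc <|
  Net.nil
noncomputable def ql5_n8 : Net := Net.cons 8 0xa0 <|
  Net.cons 4 0x600 <|
  Net.cons 1 0x100 <|
  Net.cons 2 0x3010 <|
  Net.cons 4 0x600 <|
  Net.cons 8 0xa0 <|
  Net.nil
noncomputable def ql5_n9 : Net := Net.cons 8 0x80 <|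
  Net.cons 4 0x600 <|
  Net.cons 1 0x5001 <|
  Net.cons 2 0x200 <|
  Net.cons 4 0x600 <|
  Net.cons 8 0x80 <|
  Net.nil
noncomputable def ql5_ns : List Net := [Net.nil, Net.nil, Net.nil, Net.nil, Net.nil, ql5_n5, ql5_n6, ql5_n7, ql5_n8, ql5_n9]
noncomputable def ql5_R : List (List ℕ) := [[10, 10], [12, 12], [14, 14], [16, 16], [18, 18], [14, 16, 14, 16, 14, 16], [12, 16, 12, 16], [12, 14, 12, 14, 12, 14], [10, 14, 10, 14], [10, 16, 10, 16], [10, 12, 10, 12, 10, 12], [18, 10, 18, 10], [18, 14, 18, 14], [18, 16, 18, 16], [18, 12, 18, 12, 18, 12]]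
noncomputable def ql5_S0 : List (List ℕ) := [[10], [12], [14], [16]]
noncomputable def ql5_E : Enum := ⟨ql5_ns, ql5_R, ql5_S0, [], 0⟩
theorem ql5_v : validAll (2 ^ 4) ql5_ns = true := by decide +kernel
theorem ql5_p0 : holdsB 4 ql5_ns ql5_R = true := by decide +kernel
theorem ql5_p : Holds (lp ql5_ns) ql5_R := holdsB_sound ql5_v ql5_p0
theorem ql5_f : allL ql5_E.Sub (fixN ql5_E.ns ql5_E.b0) = true := by decide +kernel
theorem ql5_r0 : ql5_E.run [74, 16, 50, 4, 58, 8, 66, 12, 42, 0, 50, 4, 58, 8, 74, 16, 50, 4, 42, 0, 3, 7, 11, 15, 4128, 4132, 4140, 4144, 4148, 28, 40, 4136, 56, 24, 4120, 36, 4132, 44, 4140, 48, 52, 4148, 20, 4152, 32, 4124, 4128, 4144, 4116, 28, 4136, 56, 4120, 4132, 44] (1 <<< 0) (List.replicate 20 0) (Enum.done 16 [10, 12, 14, 16, 18]) = true := by decide +kernel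
theorem ql5_fin {G : Type*} [Group G] {γ : ℕ → G} (hR : Holds (ext γ) ql5_R) {H : Subgroup G}
    (hS : ∀ u ∈ ql5_S0, ev (ext γ) u ∈ H) : ql5_E.Fin γ H 16 [10, 12, 14, 16, 18] :=
  have hy : ql5_E.Hyp γ H := Enum.hyp_of ql5_v hR ql5_p hS ql5_f
  (Enum.fin_of_done hy (Enum.inv_init 20) ql5_r0)
noncomputable def ql6_n5 : Net := Net.cons 1 0x1 <|
  Net.nil
noncomputable def ql6_n6 : Net := Net.cons 2 0x2 <|
  Net.cons 1 0x4 <|
  Net.cons 2 0x2 <|
  Net.nil
noncomputable def ql6_n7 : Net := Net.cons 1 0x4 <|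
  Net.nil
noncomputable def ql6_n8 : Net := Net.cons 4 0x8 <|
  Net.cons 2 0x20 <|
  Net.cons 1 0x10 <|
  Net.cons 2 0x20 <|
  Net.cons 4 0x8 <|
  Net.nil
noncomputable def ql6_ns : List Net := [Net.nil, Net.nil, Net.nil, Net.nil, Net.nil, ql6_n5, ql6_n6, ql6_n7, ql6_n8, Net.nil]
noncomputable def ql6_R : List (List ℕ) := [[10, 10], [12, 12], [14, 14], [16, 16], [14, 16, 14, 16, 14, 16], [12, 16, 12, 16], [12, 14, 12, 14, 12, 14], [10, 14, 10, 14], [10, 16, 10, 16], [10, 12, 10, 12, 10, 12]]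
noncomputable def ql6_S0 : List (List ℕ) := [[12], [14], [16]]
noncomputable def ql6_E : Enum := ⟨ql6_ns, ql6_R, ql6_S0, [], 0⟩
theorem ql6_v : validAll (2 ^ 3) ql6_ns = true := by decide +kernel
theorem ql6_p0 : holdsB 3 ql6_ns ql6_R = true := by decide +kernel
theorem ql6_p : Holds (lp ql6_ns) ql6_R := holdsB_sound ql6_v ql6_p0
theorem ql6_f : allL ql6_E.Sub (fixN ql6_E.ns ql6_E.b0) = true := by decide +kernel
theorem ql6_r0 : ql6_E.run [42, 0, 50, 4, 58, 8, 66, 12, 3, 7, 11, 4124, 4128, 24, 36, 20, 4116, 28, 32, 16] (1 <<< 0) (List.replicate 18 0) (Enum.done 5 [10, 12, 14, 16]) = true := by decide +kernel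
theorem ql6_fin {G : Type*} [Group G] {γ : ℕ → G} (hR : Holds (ext γ) ql6_R) {H : Subgroup G}
    (hS : ∀ u ∈ ql6_S0, ev (ext γ) u ∈ H) : ql6_E.Fin γ H 5 [10, 12, 14, 16] :=
  have hy : ql6_E.Hyp γ H := Enum.hyp_of ql6_v hR ql6_p hS ql6_f
  (Enum.fin_of_done hy (Enum.inv_init 18) ql6_r0)
noncomputable def ql7_n6 : Net := Net.cons 1 0x1 <|
  Net.nil
noncomputable def ql7_n7 : Net := Net.cons 2 0x2 <|
  Net.cons 1 0x4 <|
  Net.cons 2 0x2 <|
  Net.nil
noncomputable def ql7_n8 : Net := Net.cons 1 0x4 <|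
  Net.nil
noncomputable def ql7_ns : List Net := [Net.nil, Net.nil, Net.nil, Net.nil, Net.nil, Net.nil, ql7_n6, ql7_n7, ql7_n8, Net.nil]
noncomputable def ql7_R : List (List ℕ) := [[12, 12], [14, 14], [16, 16], [14, 16, 14, 16, 14, 16], [12, 16, 12, 16], [12, 14, 12, 14, 12, 14]]
noncomputable def ql7_S0 : List (List ℕ) := [[14], [16]]
noncomputable def ql7_E : Enum := ⟨ql7_ns, ql7_R, ql7_S0, [], 0⟩
theorem ql7_v : validAll (2 ^ 3) ql7_ns = true := by decide +kernel
theorem ql7_p0 : holdsB 3 ql7_ns ql7_R = true := by decide +kernel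
theorem ql7_p : Holds (lp ql7_ns) ql7_R := holdsB_sound ql7_v ql7_p0
theorem ql7_f : allL ql7_E.Sub (fixN ql7_E.ns ql7_E.b0) = true := by decide +kernel
theorem ql7_r0 : ql7_E.run [50, 0, 58, 4, 66, 8, 3, 7, 4112, 12, 20, 16] (1 <<< 0) (List.replicate 18 0) (Enum.done 4 [12, 14, 16]) = true := by decide +kernel
theorem ql7_fin {G : Type*} [Group G] {γ : ℕ → G} (hR : Holds (ext γ) ql7_R) {H : Subgroup G}
    (hS : ∀ u ∈ ql7_S0, ev (ext γ) u ∈ H) : ql7_E.Fin γ H 4 [12, 14, 16] :=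
  have hy : ql7_E.Hyp γ H := Enum.hyp_of ql7_v hR ql7_p hS ql7_f
  (Enum.fin_of_done hy (Enum.inv_init 18) ql7_r0)
noncomputable def ql8_n7 : Net := Net.cons 1 0x1 <|
  Net.nil
noncomputable def ql8_n8 : Net := Net.cons 2 0x2 <|
  Net.cons 1 0x4 <|
  Net.cons 2 0x2 <|
  Net.nil
noncomputable def ql8_ns : List Net := [Net.nil, Net.nil, Net.nil, Net.nil, Net.nil, Net.nil, Net.nil, ql8_n7, ql8_n8, Net.nil]
noncomputable def ql8_R : List (List ℕ) := [[14, 14], [16, 16], [14, 16, 14, 16, 14, 16]]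
noncomputable def ql8_S0 : List (List ℕ) := [[16]]
noncomputable def ql8_E : Enum := ⟨ql8_ns, ql8_R, ql8_S0, [], 0⟩
theorem ql8_v : validAll (2 ^ 3) ql8_ns = true := by decide +kernel
theorem ql8_p0 : holdsB 3 ql8_ns ql8_R = true := by decide +kernel
theorem ql8_p : Holds (lp ql8_ns) ql8_R := holdsB_sound ql8_v ql8_p0
theorem ql8_f : allL ql8_E.Sub (fixN ql8_E.ns ql8_E.b0) = true := by decide +kernel
theorem ql8_r0 : ql8_E.run [58, 0, 66, 4, 3, 8] (1 <<< 0) (List.replicate 18 0) (Enum.done 3 [14, 16]) = true := by decide +kernel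
theorem ql8_fin {G : Type*} [Group G] {γ : ℕ → G} (hR : Holds (ext γ) ql8_R) {H : Subgroup G}
    (hS : ∀ u ∈ ql8_S0, ev (ext γ) u ∈ H) : ql8_E.Fin γ H 3 [14, 16] :=
  have hy : ql8_E.Hyp γ H := Enum.hyp_of ql8_v hR ql8_p hS ql8_f
  (Enum.fin_of_done hy (Enum.inv_init 18) ql8_r0)
noncomputable def ql9_n8 : Net := Net.cons 1 0x1 <|
  Net.nil
noncomputable def ql9_ns : List Net := [Net.nil, Net.nil, Net.nil, Net.nil, Net.nil, Net.nil, Net.nil, Net.nil, ql9_n8, Net.nil]
noncomputable def ql9_R : List (List ℕ) := [[16, 16]]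
noncomputable def ql9_S0 : List (List ℕ) := []
noncomputable def ql9_E : Enum := ⟨ql9_ns, ql9_R, ql9_S0, [], 0⟩
theorem ql9_v : validAll (2 ^ 3) ql9_ns = true := by decide +kernel
theorem ql9_p0 : holdsB 3 ql9_ns ql9_R = true := by decide +kernel
theorem ql9_p : Holds (lp ql9_ns) ql9_R := holdsB_sound ql9_v ql9_p0
theorem ql9_f : allL ql9_E.Sub (fixN ql9_E.ns ql9_E.b0) = true := by decide +kernel
theorem ql9_r0 : ql9_E.run [66, 0] (1 <<< 0) (List.replicate 18 0) (Enum.done 2 [16]) = true := by decide +kernel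
theorem ql9_fin {G : Type*} [Group G] {γ : ℕ → G} (hR : Holds (ext γ) ql9_R) {H : Subgroup G}
    (hS : ∀ u ∈ ql9_S0, ev (ext γ) u ∈ H) : ql9_E.Fin γ H 2 [16] :=
  have hy : ql9_E.Hyp γ H := Enum.hyp_of ql9_v hR ql9_p hS ql9_f
  (Enum.fin_of_done hy (Enum.inv_init 18) ql9_r0)
theorem qbd9 {G : Type*} [Group G] {γ : ℕ → G} (hR : Holds (ext γ) qRR) : Bd (gp γ [16]) 2 :=
  Bd.step (ql9_fin (hR.subR (by decide +kernel)) (wordsIn_sound γ (L := []) (by decide +kernel))) (Bd.gp_nil γ) (by norm_num)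
theorem qbd8 {G : Type*} [Group G] {γ : ℕ → G} (hR : Holds (ext γ) qRR) : Bd (gp γ [14, 16]) 6 :=
  Bd.step (ql8_fin (hR.subR (by decide +kernel)) (wordsIn_sound γ (L := [16]) (by decide +kernel))) (qbd9 hR) (by norm_num)
theorem qbd7 {G : Type*} [Group G] {γ : ℕ → G} (hR : Holds (ext γ) qRR) : Bd (gp γ [12, 14, 16]) 24 :=
  Bd.step (ql7_fin (hR.subR (by decide +kernel)) (wordsIn_sound γ (L := [14, 16]) (by decide +kernel))) (qbd8 hR) (by norm_num)
theorem qbd6 {G : Type*} [Group G] {γ : ℕ → G} (hR : Holds (ext γ) qRR) : Bd (gp γ [10, 12, 14, 16]) 120 :=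
  Bd.step (ql6_fin (hR.subR (by decide +kernel)) (wordsIn_sound γ (L := [12, 14, 16]) (by decide +kernel))) (qbd7 hR) (by norm_num)
theorem qbd5 {G : Type*} [Group G] {γ : ℕ → G} (hR : Holds (ext γ) qRR) : Bd (gp γ [10, 12, 14, 16, 18]) 1920 :=
  Bd.step (ql5_fin (hR.subR (by decide +kernel)) (wordsIn_sound γ (L := [10, 12, 14, 16]) (by decide +kernel))) (qbd6 hR) (by norm_num)
theorem qbd4 {G : Type*} [Group G] {γ : ℕ → G} (hR : Holds (ext γ) qRR) : Bd (gp γ [8, 10, 12, 14, 16, 18]) 51840 :=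
  Bd.step (ql4_fin (hR.subR (by decide +kernel)) (wordsIn_sound γ (L := [10, 12, 14, 16, 18]) (by decide +kernel))) (qbd5 hR) (by norm_num)
theorem qbd3 {G : Type*} [Group G] {γ : ℕ → G} (hR : Holds (ext γ) qRR) : Bd (gp γ [6, 8, 10, 12, 14, 16, 18]) 2903040 :=
  Bd.step (ql3_fin (hR.subR (by decide +kernel)) (wordsIn_sound γ (L := [8, 10, 12, 14, 16, 18]) (by decide +kernel))) (qbd4 hR) (by norm_num)
theorem qbd2 {G : Type*} [Group G] {γ : ℕ → G} (hR : Holds (ext γ) qRR) : Bd (gp γ [4, 6, 8, 10, 12, 14, 16, 18]) 348364800 :=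
  Bd.step (ql2_fin (hR.subR (by decide +kernel)) (wordsIn_sound γ (L := [6, 8, 10, 12, 14, 16, 18]) (by decide +kernel))) (qbd3 hR) (by norm_num)
theorem qbd1 {G : Type*} [Group G] {γ : ℕ → G} (hR : Holds (ext γ) qRR) : Bd (gp γ [2, 4, 6, 8, 10, 12, 14, 16, 18]) 47377612800 :=
  Bd.step (ql1_fin (hR.subR (by decide +kernel)) (wordsIn_sound γ (L := [4, 6, 8, 10, 12, 14, 16, 18]) (by decide +kernel))) (qbd2 hR) (by norm_num)
theorem qbd0 {G : Type*} [Group G] {γ : ℕ → G} (hR : Holds (ext γ) qRR) : Bd (gp γ [0, 2, 4, 6, 8, 10, 12, 14, 16, 18]) 3311126603366400 :=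
  Bd.step (ql0_fin (hR.subR (by decide +kernel)) (wordsIn_sound γ (L := [2, 4, 6, 8, 10, 12, 14, 16, 18]) (by decide +kernel))) (qbd1 hR) (by norm_num)

end Cfsg.Agent.F42C
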