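import Cfsg.Agent.F42C.PresQL0D1

set_option autoImplicit false
set_option Elab.async false
set_option maxRecDepth 100000
set_option linter.all false

namespace Cfsg.Agent.F42C
open Cfsg.Agent.CGT

theorem ql0_p0 : holdsB 17 ql0_ns [[0, 0], [2, 2], [4, 4], [6, 6], [8, 8], [10, 10], [12, 12], [14, 14], [16, 16], [18, 18]] = true := by decide +kernel
theorem ql0_p1 : holdsB 17 ql0_ns [[4, 6, 8, 10, 12, 14, 16, 18, 4, 6, 8, 10, 12, 14, 16, 18, 4, 6, 8, 10, 12, 14, 16, 18, 4, 6, 8, 10, 12, 14, 16, 18, 4, 6, 8, 10, 12, 14, 16, 18, 4, 6, 8, 10, 12, 14, 16, 18, 4, 6, 8, 10, 12, 14, 16, 18, 4, 6, 8, 10, 12, 14, 16, 18, 4, 6, 8, 10, 12, 14, 16, 18, 4, 6, 8, 10, 12, 14, 16, 18, 4, 6, 8, 10, 12, 14, 16, 18, 4, 6, 8, 10, 12, 14, 16, 18, 4, 6, 8, 10, 12, 14, 16, 18, 4, 6, 8, 10, 12, 14, 16, 18, 4, 6, 8, 10, 12, 14, 16, 18]] = true := by decide +kernel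
theorem ql0_p2 : holdsB 17 ql0_ns [[2, 8, 10, 12, 14, 16, 18, 2, 8, 10, 12, 14, 16, 18, 2, 8, 10, 12, 14, 16, 18, 2, 8, 10, 12, 14, 16, 18, 2, 8, 10, 12, 14, 16, 18, 2, 8, 10, 12, 14, 16, 18, 2, 8, 10, 12, 14, 16, 18, 2, 8, 10, 12, 14, 16, 18, 2, 8, 10, 12, 14, 16, 18]] = true := by decide +kernel
theorem ql0_p3 : holdsB 17 ql0_ns [[14, 16, 14, 16, 14, 16], [12, 16, 12, 16], [12, 14, 12, 14, 12, 14], [10, 14, 10, 14], [10, 16, 10, 16]] = true := by decide +kernel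
theorem ql0_p4 : holdsB 17 ql0_ns [[10, 12, 10, 12, 10, 12], [18, 10, 18, 10], [18, 14, 18, 14], [18, 16, 18, 16], [18, 12, 18, 12, 18, 12]] = true := by decide +kernel
theorem ql0_p5 : holdsB 17 ql0_ns [[8, 12, 8, 12], [8, 14, 8, 14], [8, 16, 8, 16], [8, 18, 8, 18], [8, 10, 8, 10, 8, 10], [6, 10, 6, 10]] = true := by decide +kernel
theorem ql0_p6 : holdsB 17 ql0_ns [[6, 12, 6, 12], [6, 14, 6, 14], [6, 16, 6, 16], [6, 18, 6, 18], [6, 8, 6, 8, 6, 8], [4, 8, 4, 8]] = true := by decide +kernel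
theorem ql0_p7 : holdsB 17 ql0_ns [[4, 10, 4, 10], [4, 12, 4, 12], [4, 14, 4, 14], [4, 16, 4, 16], [4, 18, 4, 18], [4, 6, 4, 6, 4, 6]] = true := by decide +kernel
theorem ql0_p8 : holdsB 17 ql0_ns [[2, 4, 2, 4], [2, 6, 2, 6], [2, 8, 2, 8], [2, 10, 2, 10], [2, 12, 2, 12], [2, 14, 2, 14]] = true := by decide +kernel
theorem ql0_p9 : holdsB 17 ql0_ns [[2, 18, 2, 18], [2, 16, 2, 16, 2, 16], [6, 4, 0, 6, 0, 4, 6, 0, 4]] = true := by decide +kernel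
theorem ql0_p10 : holdsB 17 ql0_ns [[8, 0, 8, 10, 0, 8, 0, 8, 10], [12, 0, 12, 14, 0, 12, 0, 12, 14], [10, 12, 0, 12, 10, 0, 12, 0, 12]] = true := by decide +kernel
theorem ql0_p11 : holdsB 17 ql0_ns [[18, 12, 0, 12, 18, 0, 12, 0, 12], [16, 2, 0, 16, 0, 2, 16, 0, 2], [14, 16, 0, 16, 14, 0, 16, 0, 16]] = true := by decide +kernel
theorem ql0_p12 : holdsB 17 ql0_ns [[18, 14, 0, 6, 8, 0, 6, 2, 8, 0, 6, 8], [0, 2, 0, 2], [0, 4, 0, 4]] = true := by decide +kernel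
theorem ql0_p13 : holdsB 17 ql0_ns [[0, 6, 0, 6, 0, 6, 0, 6], [0, 8, 0, 8, 0, 8, 0, 8], [0, 10, 0, 10]] = true := by decide +kernel
theorem ql0_p14 : holdsB 17 ql0_ns [[0, 12, 0, 12, 0, 12, 0, 12], [0, 14, 0, 14], [0, 16, 0, 16, 0, 16, 0, 16], [0, 18, 0, 18]] = true := by decide +kernel
theorem ql0_f : allL ql0_E.Sub (fixN ql0_E.ns ql0_E.b0) = true := by decide +kernel
theorem ql0_r0 : ql0_E.run [2, 0, 26, 12, 34, 16, 42, 20, 50, 24, 58, 28, 66, 32, 2, 0, 10, 4, 18, 8, 26, 12, 34, 16, 42, 20, 50, 24, 58, 28, 66, 32, 74, 36, 2, 0, 10, 4, 18, 8, 26, 12, 34, 16, 42, 20, 50, 24, 58, 28, 66, 32, 74, 36, 2, 0, 10, 4, 18, 8, 26, 12, 34, 16, 42, 20, 50, 24, 58, 28, 66, 32, 2, 0, 3, 7, 11, 15, 19, 23, 27, 31, 35, 52, 4148, 60, 4156, 64, 4160, 72, 76, 4172, 4176, 88, 4184, 92, 4188, 96, 4192, 100, 4196, 108, 4204, 112, 4208, 116, 4212, 120, 4216,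 124, 4220, 132, 4228, 136, 4232, 140, 4236, 144, 4240, 148, 4244, 152, 4248, 160, 4256, 164, 4260, 168, 4264, 172, 4268, 176, 4272, 180, 184, 4280, 224, 4320, 228, 4324, 240, 4336, 248, 4344, 4352, 4144, 56, 4152, 4164, 84, 4180, 104, 4200, 4224, 4252, 188, 4284, 232, 4328, 4340, 4348, 4288, 8, 4292, 0, 4296, 0, 16584, 0, 32968, 28, 204, 16588, 20] (1 <<< 0) (List.replicate 20 0) (fun D K => Nat.beq D ql0_D0 && beqL K [ql0_K0_0, 0, ql0_K0_2, 0, ql0_K0_4, 0, ql0_K0_6, 0, ql0_K0_8, 0, ql0_K0_10, 0, ql0_K0_12, 0, ql0_K0_14, 0, ql0_K0_16, 0, ql0_K0_18, 0]) = true := by decide +kernel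
theorem ql0_r1 : ql0_E.run [208, 8400, 0, 12496, 20688, 0, 4308, 4, 12500, 20692, 216, 16600, 28, 4196, 4220, 72, 76, 80, 4196, 4212, 160, 164, 168, 172, 176, 72, 4188, 4216, 180, 4148, 4156, 4160, 4192, 4204, 132, 136, 140, 144, 4352, 4180, 4284, 4160, 148, 56, 52, 4148, 80, 4176, 88, 4208, 152, 184, 4320, 4324, 48, 64, 76, 4184, 92, 96, 100, 4196, 112, 4220, 4236, 4248, 4256, 4272, 4280, 4344, 4352, 4144, 4152, 104, 4200, 4224, 72, 80, 88, 92, 4196, 4220, 4280, 4352, 72, 4196, 4220, 4248, 4180, 72, 80, 4352, 96, 100, 4196, 4220, 4228, 4264, 4280, 68, 4180, 4200, 128, 60, 72, 76, 4196, 108, 4336, 52, 64, 72, 4168, 88, 4184, 4192, 4204, 112, 116, 4212, 120, 4216, 4236, 164, 168, 172, 176, 4276, 240, 248] ql0_D0 [ql0_K0_0, 0, ql0_K0_2, 0, ql0_K0_4, 0, ql0_K0_6, 0, ql0_K0_8, 0, ql0_K0_10, 0, ql0_K0_12, 0, ql0_K0_14, 0, ql0_K0_16, 0, ql0_K0_18,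 0] (fun D K => Nat.beq D ql0_D0 && beqL K [ql0_K1_0, 0, ql0_K1_2, 0, ql0_K1_4, 0, ql0_K1_6, 0, ql0_K1_8, 0, ql0_K1_10, 0, ql0_K1_12, 0, ql0_K1_14, 0, ql0_K1_16, 0, ql0_K1_18, 0]) = true := by decide +kernel
theorem ql0_r2 : ql0_E.run [4144, 4164, 104, 188, 4284, 232, 80, 88, 92, 4188, 96, 100, 4208, 4228, 136, 140, 144, 4240, 4244, 160, 4264, 4268, 180, 4336, 4344, 4152, 128, 4252, 4288, 8, 16580, 0, 4308, 4, 12500, 216, 28, 108, 112, 116, 120, 4272, 4156, 88, 4184, 4188, 112, 4212, 4216, 124, 132, 4232, 4240, 148, 4260, 4276, 228, 4344, 48, 56, 68, 4224, 236, 52, 4156, 4188, 4212, 4272, 4344, 56, 4156, 4188, 4212, 4156, 56, 52, 60, 64, 4188, 4192, 4208, 4236, 4240, 4272, 4344, 48, 68, 84, 204, 60, 64, 76, 4204, 4208, 4212, 4336, 68, 64, 4184, 4148, 4156, 4160, 4168, 80, 4176, 4188, 96, 140, 144, 4244, 152, 164, 4264, 4268, 4344, 4352,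 48, 188, 4284, 4332, 8392, 24, 16584, 0] ql0_D0 [ql0_K1_0, 0, ql0_K1_2, 0, ql0_K1_4, 0, ql0_K1_6, 0, ql0_K1_8, 0, ql0_K1_10, 0, ql0_K1_12, 0, ql0_K1_14, 0, ql0_K1_16, 0, ql0_K1_18, 0] (fun D K => Nat.beq D ql0_D0 && beqL K [ql0_K2_0, 0, ql0_K2_2, 0, ql0_K2_4, 0, ql0_K2_6, 0, ql0_K2_8, 0, ql0_K2_10, 0, ql0_K2_12, 0, ql0_K2_14, 0, ql0_K2_16, 0, ql0_K2_18, 0]) = true := by decide +kernel
theorem ql0_r3 : ql0_E.run [16588, 20, 4148, 60, 4156, 64, 72, 4168, 4176, 4184, 92, 4188, 4192, 4196, 4204, 4208, 4212, 4216, 136, 4232, 140, 144, 148, 152, 4248, 4256, 4268, 176, 4276, 224, 4320, 4324, 4336, 4344, 48, 4144, 56, 4152, 68, 84, 104, 4252, 236, 196, 16, 12484, 16580, 0, 8396, 12496, 24, 16592, 36, 80, 4188, 4196, 4204, 4212, 4220, 140, 4280, 4352, 4180, 4156, 4184, 4196, 4208, 4220, 132, 4248, 4352, 68, 72, 76, 80, 4196, 4220, 4352, 72,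 4196, 4220, 4280, 4180, 52, 60, 64, 72, 4168, 80, 4232, 4336, 4352, 56, 84, 104, 88, 92, 96, 100, 4204, 52, 60, 4184, 4196, 4208, 4220, 136, 148, 164, 168, 4264, 172, 176, 4272, 4276, 184, 240, 4344, 68, 60, 64, 72, 4168, 4188, 4192, 4204, 4212, 132, 140, 144, 4240, 148, 4268] ql0_D0 [ql0_K2_0, 0, ql0_K2_2, 0, ql0_K2_4, 0, ql0_K2_6, 0, ql0_K2_8, 0, ql0_K2_10, 0, ql0_K2_12, 0, ql0_K2_14, 0, ql0_K2_16, 0, ql0_K2_18, 0] (fun D K => Nat.beq D ql0_D0 && beqL K [ql0_K3_0, 0, ql0_K3_2, 0, ql0_K3_4, 0, ql0_K3_6, 0, ql0_K3_8, 0, ql0_K3_10, 0, ql0_K3_12, 0, ql0_K3_14, 0, ql0_K3_16, 0, ql0_K3_18, 0]) = true := by decide +kernel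
theorem ql0_r4 : ql0_E.run [180, 4336, 4352, 4144, 56, 104, 128, 20684, 0, 208, 4156, 76, 88, 92, 4188, 96, 4204, 4212, 4220, 4228, 4232, 4240, 4344, 56, 104, 52, 4156, 4172, 80, 88, 92, 96, 100, 4196, 4212, 4276, 56, 4180, 52, 4148, 60, 4160, 72, 4184, 4188, 112, 116, 120, 4280, 248, 4152, 84, 4292, 0, 4148, 4156, 76, 4172, 4176, 88, 92, 100, 108, 112, 116, 4212, 124, 4228, 4248, 160, 4256, 4260, 168, 4272, 4276, 248, 4344, 256, 48, 56, 4224, 232, 236, 192, 4288, 8, 16584, 0, 204, 12500, 64, 4188, 4204, 112, 4212, 4216, 132, 136, 4232, 140, 144, 4244, 4256, 228, 240, 248, 68, 104, 60, 4156, 64, 88, 92, 4188, 96, 4192, 100, 124, 4264, 4268, 4276, 224, 4336, 56, 20676, 16, 88] ql0_D0 [ql0_K3_0, 0, ql0_K3_2, 0, ql0_K3_4, 0, ql0_K3_6, 0, ql0_K3_8, 0, ql0_K3_10, 0, ql0_K3_12, 0, ql0_K3_14, 0, ql0_K3_16, 0, ql0_K3_18, 0] (fun D K => Nat.beq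 D ql0_D0 && beqL K [ql0_K4_0, 0, ql0_K4_2, 0, ql0_K4_4, 0, ql0_K4_6, 0, ql0_K4_8, 0, ql0_K4_10, 0, ql0_K4_12, 0, ql0_K4_14, 0, ql0_K4_16, 0, ql0_K4_18, 0]) = true := by decide +kernel
theorem ql0_r5 : ql0_E.run [4200, 52, 4156, 4188, 96, 4204, 4212, 140, 164, 168, 176, 4324, 4344, 48, 4144, 104, 4252, 4328, 12488, 20680, 24, 24780, 24, 4308, 4, 16600, 28, 8412, 0, 4148, 4160, 88, 4184, 92, 4188, 96, 100, 4196, 4208, 116, 4212, 152, 160, 4260, 4264, 4272, 240, 248, 4344, 4352, 56, 68, 188, 4284, 16580, 0, 12496, 24, 52, 4156, 4184, 4188, 4212, 4272, 4344, 4156, 4208, 116, 4184, 4188, 4236, 4268, 224, 240, 68, 4164, 84, 16592, 36, 12508, 12, 64, 72, 4168, 76, 4172, 80, 4196, 108, 4208, 116, 4212, 4216, 124, 4220, 140, 144, 148, 4248, 172, 4268, 184, 4280, 4324, 4352, 4144, 56, 4152, 84, 4180, 128, 4224, 4252, 244, 4348, 4292, 0, 8388]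 ql0_D0 [ql0_K4_0, 0, ql0_K4_2, 0, ql0_K4_4, 0, ql0_K4_6, 0, ql0_K4_8, 0, ql0_K4_10, 0, ql0_K4_12, 0, ql0_K4_14, 0, ql0_K4_16, 0, ql0_K4_18, 0] (fun D K => Nat.beq D ql0_D0 && beqL K [ql0_K5_0, 0, ql0_K5_2, 0, ql0_K5_4, 0, ql0_K5_6, 0, ql0_K5_8, 0, ql0_K5_10, 0, ql0_K5_12, 0, ql0_K5_14, 0, ql0_K5_16, 0, ql0_K5_18, 0]) = true := by decide +kernel
theorem ql0_r6 : ql0_E.run [200, 24, 4296, 0, 8392, 24, 16584, 0, 32968, 204, 8396, 0, 20684, 208, 36, 4304, 8400, 0, 20688, 0, 212, 12500, 216, 28, 8408, 0, 12504, 32, 24792, 52, 4148, 4184, 4188, 4192, 4196, 112, 4208, 116, 120, 4220, 132, 136, 140, 144, 148, 4256, 4260, 4272, 228, 4324, 4344, 4352, 48, 84, 4160, 80, 4196, 4212, 136, 4232, 140, 144, 4240, 148, 4244, 152, 4248, 160, 4280, 4320, 4324, 4344, 4352, 56, 4180, 4252, 4284, 12496, 24, 52, 4156, 72, 76, 4172, 80, 4184, 4188, 4196, 4208,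 4212, 4216, 4220, 132, 136, 140, 4236, 4240, 152, 4248, 160, 164, 4272, 180, 4276, 224, 4324, 4352, 48, 56, 68, 84, 4252, 12480, 60, 4156, 64, 72, 4168, 4184, 4188] ql0_D0 [ql0_K5_0, 0, ql0_K5_2, 0, ql0_K5_4, 0, ql0_K5_6, 0, ql0_K5_8, 0, ql0_K5_10, 0, ql0_K5_12, 0, ql0_K5_14, 0, ql0_K5_16, 0, ql0_K5_18, 0] (fun D K => Nat.beq D ql0_D0 && beqL K [ql0_K6_0, 0, ql0_K6_2, 0, ql0_K6_4, 0, ql0_K6_6, 0, ql0_K5_8, 0, ql0_K6_10, 0, ql0_K6_12, 0, ql0_K6_14, 0, ql0_K6_16, 0, ql0_K6_18, 0]) = true := by decide +kernel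
theorem ql0_r7 : ql0_E.run [4196, 116, 4220, 4268, 4276, 4336, 4352, 104, 4156, 72, 76, 88, 92, 4196, 4204, 4220, 52, 4148, 60, 72, 80, 96, 100, 4196, 108, 112, 4208, 116, 4212, 136, 140, 144, 4248, 168, 172, 4280, 240, 248, 4344, 56, 68, 84, 4180, 104, 4252, 4328, 244, 32960, 8, 52, 72, 4176, 88, 4184, 92, 96, 4192, 100, 4208, 4212, 120, 132, 136, 140, 148, 4244, 4252, 4184, 4188, 112, 4148, 4156, 64, 108, 116, 4212, 120, 124, 4220, 4228, 144, 148, 152, 160, 4256, 4260, 4264, 4268, 176, 180, 228, 4324, 248, 256, 56, 4152, 128, 156, 8384, 0, 200, 24, 16584, 0, 204, 20, 12492, 24, 16588, 20, 20684, 0, 208, 212, 52, 60, 4168, 4184, 4196, 108, 4204, 112, 4208, 4212, 132, 136, 4232, 140, 4236, 144, 4240] ql0_D0 [ql0_K6_0, 0, ql0_K6_2, 0, ql0_K6_4, 0, ql0_K6_6, 0, ql0_K5_8, 0, ql0_K6_10, 0, ql0_K6_12, 0, ql0_K6_14, 0, ql0_K6_16, 0, ql0_K6_18,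 0] (fun D K => Nat.beq D ql0_D0 && beqL K [ql0_K7_0, 0, ql0_K7_2, 0, ql0_K7_4, 0, ql0_K7_6, 0, ql0_K7_8, 0, ql0_K7_10, 0, ql0_K7_12, 0, ql0_K7_14, 0, ql0_K7_16, 0, ql0_K7_18, 0]) = true := by decide +kernel
theorem ql0_r8 : ql0_E.run [148, 152, 4248, 4272, 228, 4324, 4344, 4352, 48, 56, 4152, 68, 4252, 64, 4172, 4188, 4204, 4208, 4212, 4220, 132, 136, 140, 4256, 4276, 248, 156, 52, 4156, 4184, 4188, 4196, 116, 120, 4236, 144, 148, 4256, 228, 72, 76, 112, 140, 144, 4324, 4148, 60, 4156, 64, 80, 88, 92, 4192, 108, 116, 4212, 120, 124, 132, 4236, 144, 4240, 152, 4248, 4260, 228, 240, 56, 84, 156, 112, 116, 4212, 120, 4216, 4240, 248, 156, 4188, 112, 4208, 60, 4160, 4184, 4192, 4196, 124, 4232, 4236, 4244, 164, 4344, 4352, 4152, 4164, 4328, 4288, 8, 8384, 0, 16584, 0, 52, 4148, 4156, 76, 4176, 88, 4188, 96, 4196, 108, 4212, 4220, 132, 4232,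 140, 4236, 144, 4244, 4268, 4272, 228, 4336, 56, 68, 4180, 104, 4284, 236, 244, 8392, 24] ql0_D0 [ql0_K7_0, 0, ql0_K7_2, 0, ql0_K7_4, 0, ql0_K7_6, 0, ql0_K7_8, 0, ql0_K7_10, 0, ql0_K7_12, 0, ql0_K7_14, 0, ql0_K7_16, 0, ql0_K7_18, 0] (fun D K => Nat.beq D ql0_D0 && beqL K [ql0_K8_0, 0, ql0_K8_2, 0, ql0_K8_4, 0, ql0_K8_6, 0, ql0_K8_8, 0, ql0_K8_10, 0, ql0_K8_12, 0, ql0_K8_14, 0, ql0_K8_16, 0, ql0_K8_18, 0]) = true := by decide +kernel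
theorem ql0_r9 : ql0_E.run [32968, 28, 204, 208, 8400, 0, 16592, 36, 12500, 16604, 16, 20700, 0, 52, 60, 4156, 64, 88, 4184, 92, 4188, 4196, 4204, 112, 4208, 4212, 4220, 132, 136, 140, 4236, 148, 152, 4248, 4256, 4264, 4268, 4272, 224, 4324, 240, 248, 4352, 56, 68, 4164, 84, 4180, 4200, 128, 4296, 0, 76, 4184, 4196, 4156, 4176, 108, 124, 4220, 140, 148, 4244, 4324, 240, 4152, 4148, 60, 4160, 4168, 88, 96, 100, 112, 4208, 116, 120, 4216, 132, 4228, 4232, 4236, 4240, 4248, 224, 4336, 48, 56, 4152, 68, 84, 8396, 0, 212, 24792, 32, 52, 4148, 64, 76, 4172, 80, 4188, 96, 4192, 4196, 116, 120, 136, 144, 148, 4244, 4264, 4272, 4276, 224, 4336, 248, 256, 4352, 4144, 4180, 188, 8404] ql0_D0 [ql0_K8_0, 0, ql0_K8_2, 0, ql0_K8_4, 0, ql0_K8_6, 0, ql0_K8_8, 0, ql0_K8_10, 0, ql0_K8_12, 0, ql0_K8_14, 0, ql0_K8_16, 0, ql0_K8_18, 0] (fun D K => Nat.beq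 D ql0_D0 && beqL K [ql0_K9_0, 0, ql0_K9_2, 0, ql0_K9_4, 0, ql0_K9_6, 0, ql0_K9_8, 0, ql0_K9_10, 0, ql0_K9_12, 0, ql0_K9_14, 0, ql0_K9_16, 0, ql0_K9_18, 0]) = true := by decide +kernel
theorem ql0_r10 : ql0_E.run [0, 4216, 136, 52, 4160, 80, 4184, 92, 4192, 4196, 108, 112, 116, 140, 4236, 4244, 152, 4248, 168, 172, 176, 180, 4280, 228, 240, 4344, 48, 4164, 104, 236, 4292, 0, 20680, 24, 20684, 0, 8400, 0, 12500, 12508, 12, 52, 4148, 88, 4192, 108, 112, 4208, 116, 120, 4216, 124, 4236, 4260, 4272, 4164, 84, 4180, 128, 156, 4328, 4288, 8, 8384, 0, 20672, 200, 24, 4296, 0, 28872, 204, 20, 208, 36, 16592, 52, 76, 80, 4176, 4184, 4204, 4208, 116, 4220, 132, 4228, 136, 4232, 140, 4236, 144, 148, 4244, 4272, 4280, 4324, 4336, 4344, 4352, 56, 4152, 68, 4164, 84, 4180, 4252, 4328, 16588, 20, 208, 8400, 0, 12496, 24] ql0_D0 [ql0_K9_0, 0, ql0_K9_2,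 0, ql0_K9_4, 0, ql0_K9_6, 0, ql0_K9_8, 0, ql0_K9_10, 0, ql0_K9_12, 0, ql0_K9_14, 0, ql0_K9_16, 0, ql0_K9_18, 0] (fun D K => Nat.beq D ql0_D0 && beqL K [ql0_K10_0, 0, ql0_K10_2, 0, ql0_K10_4, 0, ql0_K10_6, 0, ql0_K10_8, 0, ql0_K10_10, 0, ql0_K10_12, 0, ql0_K10_14, 0, ql0_K10_16, 0, ql0_K10_18, 0]) = true := by decide +kernel
theorem ql0_r11 : ql0_E.run [20688, 0, 8404, 52, 60, 72, 4168, 76, 4172, 80, 88, 4184, 92, 96, 100, 108, 4204, 112, 4208, 116, 4212, 4220, 136, 4264, 4272, 4336, 248, 4352, 4152, 68, 84, 104, 4224, 192, 12, 20676, 16, 60, 64, 4160, 88, 92, 4188, 96, 4192, 4196, 4208, 4212, 4216, 132, 136, 164, 4264, 228, 240, 4336, 4344, 56, 128, 16580, 0, 32964, 20, 8392, 24, 12496, 24, 212, 4148, 4156, 4160, 76, 4176, 4184, 4188, 4192, 108, 4204, 112, 4208, 116, 4216, 140, 4236, 144, 4272, 4324, 248, 68, 84, 104, 128, 8396, 0,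 52, 4148, 60, 64, 4160, 72, 4168, 80, 88, 92, 96, 4192, 100, 108, 4204, 132, 136, 4232, 4268, 240, 4336, 256, 4352, 48, 188, 212, 4148, 60, 4156, 64, 72, 4184, 4192, 4196, 4204, 112, 116] ql0_D0 [ql0_K10_0, 0, ql0_K10_2, 0, ql0_K10_4, 0, ql0_K10_6, 0, ql0_K10_8, 0, ql0_K10_10, 0, ql0_K10_12, 0, ql0_K10_14, 0, ql0_K10_16, 0, ql0_K10_18, 0] (fun D K => Nat.beq D ql0_D0 && beqL K [ql0_K11_0, 0, ql0_K11_2, 0, ql0_K11_4, 0, ql0_K11_6, 0, ql0_K11_8, 0, ql0_K11_10, 0, ql0_K11_12, 0, ql0_K11_14, 0, ql0_K11_16, 0, ql0_K11_18, 0]) = true := by decide +kernel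
theorem ql0_r12 : ql0_E.run [120, 4216, 124, 4220, 4244, 4256, 4280, 224, 4336, 56, 68, 104, 4148, 60, 4156, 64, 4160, 72, 4168, 76, 4172, 4176, 88, 92, 4192, 4196, 108, 4204, 112, 4212, 4216, 132, 136, 4232, 140, 4248, 172, 4268, 176, 4272, 184, 224, 228, 240, 4336, 248, 4352, 48, 4152, 68, 4164, 4180, 156, 232, 244, 8384, 0, 16580, 0, 12488, 28, 16584, 0, 204, 212, 12508, 12, 16604, 16, 52, 4148, 60, 64, 4160, 80, 88, 96, 4192, 4196, 108, 4204, 112, 116, 4212, 120, 4216, 4220, 132, 136, 140, 4236, 144, 148, 152, 4248, 4256, 4260, 4264, 4268, 4280, 228, 4324, 240, 4336, 248, 4352, 56, 84, 104, 4200, 128, 156, 188, 4292, 0, 24796, 12, 64, 72, 76, 80, 4176, 4188, 4196, 108] ql0_D0 [ql0_K11_0, 0, ql0_K11_2, 0, ql0_K11_4, 0, ql0_K11_6, 0, ql0_K11_8, 0, ql0_K11_10, 0, ql0_K11_12, 0, ql0_K11_14, 0, ql0_K11_16, 0, ql0_K11_18, 0] (fun D K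 => Nat.beq D ql0_D0 && beqL K [ql0_K12_0, 0, ql0_K12_2, 0, ql0_K12_4, 0, ql0_K12_6, 0, ql0_K12_8, 0, ql0_K12_10, 0, ql0_K12_12, 0, ql0_K12_14, 0, ql0_K12_16, 0, ql0_K12_18, 0]) = true := by decide +kernel
theorem ql0_r13 : ql0_E.run [4204, 112, 4208, 116, 120, 124, 132, 4228, 136, 140, 144, 148, 4244, 4260, 4324, 240, 128, 4224, 4252, 37084, 0, 4156, 108, 112, 116, 120, 4216, 132, 4236, 240, 248, 4344, 256, 128, 72, 92, 96, 4192, 112, 4228, 4240, 4256, 4264, 228, 4324, 48, 236, 8388, 16, 32964, 8404, 0, 52, 4160, 4172, 88, 4184, 92, 4188, 96, 4192, 100, 4196, 116, 4212, 120, 4216, 124, 132, 136, 4232, 140, 4236, 144, 4240, 148, 4244, 152, 4248, 160, 4256, 164, 4264, 4272, 4276, 4320, 228, 4324, 240, 4336, 248, 4344, 56, 4152, 68, 4164, 84, 4180, 4200, 128, 4224, 156, 4252, 4284, 232, 236, 4332, 244, 4340, 4348, 4288, 8, 8384, 0, 196,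 16, 4292, 0, 16580, 0] ql0_D0 [ql0_K12_0, 0, ql0_K12_2, 0, ql0_K12_4, 0, ql0_K12_6, 0, ql0_K12_8, 0, ql0_K12_10, 0, ql0_K12_12, 0, ql0_K12_14, 0, ql0_K12_16, 0, ql0_K12_18, 0] (fun D K => Nat.beq D ql0_D0 && beqL K [ql0_K13_0, 0, ql0_K13_2, 0, ql0_K13_4, 0, ql0_K13_6, 0, ql0_K13_8, 0, ql0_K13_10, 0, ql0_K13_12, 0, ql0_K13_14, 0, ql0_K13_16, 0, ql0_K13_18, 0]) = true := by decide +kernel
theorem ql0_r14 : ql0_E.run [4296, 0, 204, 8396, 0, 4304, 24, 8400, 0, 16592, 36, 212, 8408, 0, 12504, 32, 16600, 28, 4316, 28, 8412, 0, 12508, 12, 16604, 16, 52, 4148, 60, 4156, 64, 4160, 4168, 76, 80, 4176, 88, 4184, 92, 4188, 96, 4192, 100, 4196, 108, 4204, 112, 4208, 116, 4212, 120, 4216, 124, 4220, 132, 4228, 136, 4232, 140, 4236, 144, 4240, 148, 4244, 152, 4256, 4260, 168, 172, 4268, 4276, 224, 228, 4324, 240, 4336, 248, 4344, 256, 4352, 48, 4144,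 56, 4152, 68, 4164, 84, 4180, 104, 4200, 128, 4224, 156, 4252, 188, 232, 236, 4332, 244, 192, 4288, 8, 16576, 0, 4292, 0, 8392, 24, 16584, 0] ql0_D0 [ql0_K13_0, 0, ql0_K13_2, 0, ql0_K13_4, 0, ql0_K13_6, 0, ql0_K13_8, 0, ql0_K13_10, 0, ql0_K13_12, 0, ql0_K13_14, 0, ql0_K13_16, 0, ql0_K13_18, 0] (fun D K => Nat.beq D ql0_D0 && beqL K [ql0_K14_0, 0, ql0_K14_2, 0, ql0_K14_4, 0, ql0_K14_6, 0, ql0_K14_8, 0, ql0_K14_10, 0, ql0_K14_12, 0, ql0_K14_14, 0, ql0_K14_16, 0, ql0_K14_18, 0]) = true := by decide +kernel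
theorem ql0_r15 : ql0_E.run [204, 20, 8396, 0, 12496, 24, 16592, 36, 12500, 32, 16600, 28, 8412, 0, 52, 4148, 60, 4156, 64, 4160, 72, 4168, 76, 4172, 4176, 88, 4184, 92, 4188, 96, 4192, 100, 4196, 108, 4204, 112, 4208, 116, 4212, 120, 4216, 124, 4220, 132, 4228, 136, 4232, 140, 4236, 144, 4240, 148, 4244, 152, 4248, 160, 4256, 164, 4260, 4264, 172, 4268, 176, 4272, 4276, 4280, 224, 4320, 228, 4324, 240, 4336, 248, 4344, 256, 4352, 48, 4144, 56, 4152, 68, 4164, 84, 4180, 104, 4200, 128, 4224, 156, 4252, 188, 4284, 232, 236, 244, 4340, 4348, 192, 12, 4288, 8, 16576, 0, 8388, 16, 16580, 0, 32964, 20, 4296, 0, 8392, 24, 12488, 28, 204, 20] ql0_D0 [ql0_K14_0, 0, ql0_K14_2, 0, ql0_K14_4, 0, ql0_K14_6, 0, ql0_K14_8, 0, ql0_K14_10, 0, ql0_K14_12, 0, ql0_K14_14, 0, ql0_K14_16, 0, ql0_K14_18, 0] (fun D K => Nat.beq D ql0_D0 && beqL K [ql0_K15_0,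 0, ql0_K15_2, 0, ql0_K15_4, 0, ql0_K15_6, 0, ql0_K15_8, 0, ql0_K15_10, 0, ql0_K15_12, 0, ql0_K15_14, 0, ql0_K15_16, 0, ql0_K15_18, 0]) = true := by decide +kernel

end Cfsg.Agent.F42C
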