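import Cfsg.Agent.F42C.PresQL0D1

set_option autoImplicit false
set_option Elab.async false
set_option maxRecDepth 100000
set_option linter.all false

namespace Cfsg.Agent.F42C
open Cfsg.Agent.CGT

theorem ql0_r16 : ql0_E.run [208, 36, 212, 32, 12504, 32, 16604, 16, 20700, 0, 24796, 12, 52, 4148, 60, 4156, 64, 4160, 72, 4168, 76, 4172, 80, 4176, 88, 4184, 92, 4188, 96, 4192, 100, 4196, 108, 4204, 112, 4208, 116, 4212, 120, 4216, 124, 4220, 132, 4228, 136, 4232, 140, 4236, 144, 4240, 148, 4244, 152, 4248, 160, 4256, 164, 4260, 168, 4264, 172, 4268, 176, 4272, 180, 4276, 184, 4280, 224, 4320, 228, 4324, 240, 4336, 248, 4344, 256, 4352, 48, 4144, 56, 4152, 68, 4164, 84, 4180, 104, 4200, 128, 4224, 156, 4252, 188, 4284, 232, 236, 244, 252, 4348, 8384, 0, 12480, 12, 20672, 8, 4292, 0, 8388, 16, 12484, 20, 16580, 0, 4296, 0, 8392, 24] ql0_D0 [ql0_K15_0, 0, ql0_K15_2,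 0, ql0_K15_4, 0, ql0_K15_6, 0, ql0_K15_8, 0, ql0_K15_10, 0, ql0_K15_12, 0, ql0_K15_14, 0, ql0_K15_16, 0, ql0_K15_18, 0] (fun D K => Nat.beq D ql0_D0 && beqL K [ql0_K16_0, 0, ql0_K16_2, 0, ql0_K16_4, 0, ql0_K16_6, 0, ql0_K16_8, 0, ql0_K16_10, 0, ql0_K16_12, 0, ql0_K16_14, 0, ql0_K16_16, 0, ql0_K16_18, 0]) = true := by decide +kernel
theorem ql0_r17 : ql0_E.run [12488, 28, 16584, 0, 204, 20, 8396, 0, 12492, 24, 16588, 20, 208, 36, 8400, 0, 212, 32, 216, 28, 8408, 0, 12504, 32, 12508, 12, 16604, 16, 52, 4148, 60, 4156, 64, 4160, 72, 4168, 76, 4172, 80, 4176, 88, 4184, 92, 4188, 96, 4192, 100, 4196, 108, 4204, 112, 4208, 116, 4212, 120, 4216, 124, 4220, 132, 136, 4232, 140, 4236, 144, 4240, 148, 4244, 152, 4248, 160, 4256, 164, 4260, 168, 4264, 172, 4268, 4272, 4276, 4280, 224, 228, 4324, 240, 4336, 248, 4344, 256, 4352, 48, 4144, 56, 68, 4180, 104, 128, 4224, 156,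 188, 4284, 12480, 12, 28864, 0, 12500, 32, 52, 60, 64, 4168, 88, 92, 4188, 96, 4192, 100, 4196, 108, 112, 4212, 4216, 132, 136, 4236, 148, 160] ql0_D0 [ql0_K16_0, 0, ql0_K16_2, 0, ql0_K16_4, 0, ql0_K16_6, 0, ql0_K16_8, 0, ql0_K16_10, 0, ql0_K16_12, 0, ql0_K16_14, 0, ql0_K16_16, 0, ql0_K16_18, 0] (fun D K => Nat.beq D ql0_D0 && beqL K [ql0_K17_0, 0, ql0_K17_2, 0, ql0_K17_4, 0, ql0_K17_6, 0, ql0_K17_8, 0, ql0_K17_10, 0, ql0_K17_12, 0, ql0_K17_14, 0, ql0_K17_16, 0, ql0_K17_18, 0]) = true := by decide +kernel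
theorem ql0_r18 : ql0_E.run [228, 240, 4336, 4344, 60, 64, 4160, 72, 4172, 4184, 92, 96, 108, 4208, 116, 120, 136, 140, 144, 4240, 4244, 4248, 164, 4264, 172, 4272, 224, 228, 68, 236, 4332, 20680, 24, 8396, 0, 52, 4148, 60, 4156, 64, 72, 4168, 4172, 4176, 88, 4184, 92, 4188, 96, 4192, 100, 4196, 108, 112, 4208, 116, 4212, 120, 4216, 124, 132, 136, 4232, 140, 4236, 4240, 152, 160, 164, 4260, 168, 4264, 4268, 4272, 4276, 224, 4320, 228, 4324, 240, 4336, 248, 4344, 256, 4352, 4144, 56, 68, 4180, 104, 128, 4328, 4332, 4348, 52, 64, 88, 4188, 4192, 4204, 132, 168, 4156, 4168, 4184, 96, 108, 112, 4208, 4212, 4216, 136, 164, 224, 248, 4200, 252, 72, 4172, 88, 92, 132, 140, 4236, 160, 4268, 228, 4336, 4344, 48, 4152, 4164, 84, 104] ql0_D0 [ql0_K17_0, 0, ql0_K17_2, 0, ql0_K17_4, 0, ql0_K17_6, 0, ql0_K17_8, 0, ql0_K17_10, 0, ql0_K17_12, 0, ql0_K17_14, 0, ql0_K17_16, 0,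 ql0_K17_18, 0] (fun D K => Nat.beq D ql0_D0 && beqL K [ql0_K18_0, 0, ql0_K18_2, 0, ql0_K18_4, 0, ql0_K18_6, 0, ql0_K18_8, 0, ql0_K18_10, 0, ql0_K18_12, 0, ql0_K18_14, 0, ql0_K18_16, 0, ql0_K18_18, 0]) = true := by decide +kernel
theorem ql0_r19 : ql0_E.run [128, 236, 244, 4348, 4148, 60, 4156, 64, 4184, 4188, 96, 4192, 4196, 108, 116, 132, 136, 164, 248, 8392, 24, 4148, 88, 4204, 112, 4208, 4212, 4216, 140, 168, 228, 4336, 88, 92, 124, 4344, 188, 244, 4160, 4168, 76, 4176, 4184, 96, 112, 4212, 132, 172, 4272, 256, 4164, 236, 4332, 4348, 8396, 0, 212, 32, 216, 12508, 12, 52, 60, 88, 4204, 4216, 132, 136, 160, 240, 4344, 52, 80, 88, 108, 4324, 4336, 248, 4340, 52, 60, 64, 120, 144, 148, 48, 252, 4308, 4] ql0_D0 [ql0_K18_0, 0, ql0_K18_2, 0, ql0_K18_4, 0, ql0_K18_6, 0, ql0_K18_8, 0, ql0_K18_10, 0, ql0_K18_12, 0, ql0_K18_14, 0, ql0_K18_16, 0, ql0_K18_18, 0] (Enum.done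 69888 [0, 2, 4, 6, 8, 10, 12, 14, 16, 18]) = true := by decide +kernel

end Cfsg.Agent.F42C
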